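import Groth.Agent.Lib.BlowUpExists.Frac
import Mathlib.AlgebraicGeometry.ValuativeCriterion
import Mathlib.AlgebraicGeometry.Morphisms.Proper
import Mathlib.AlgebraicGeometry.Morphisms.FiniteType
import Mathlib.AlgebraicGeometry.Morphisms.QuasiSeparated
import Mathlib.RingTheory.Valuation.ValuationRing

/-!
# Blow-ups in finite type centres are proper
-/

universe u

open CategoryTheory CategoryTheory.Limits AlgebraicGeometry TopologicalSpace Opposite
open Groth.Agent.Lib.Ideal

namespace Groth.Agent.Lib.BlowUpExists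

variable {X Y : Scheme.{u}} {I : X.IdealSheafData}

/-- Near every point over `U`, one of given generators of `I(U)` generates the inverse image. -/
theorem exists_genAt_of_span (g : Y ⟶ X) (hg : BlowUp.IsEffCartierIdeal (I.comap g)) (y : Y)
    {U : X.affineOpens} (hyU : g y ∈ U.1) {s : Set Γ(X, U.1)} (hs : Ideal.span s = I.ideal U) :
    ∃ a ∈ s, GenAt I g U a y := by
  obtain ⟨W, hyW, hle, t, ht, htW⟩ :=
    EffCartier.exists_gen hg y (show y ∈ g ⁻¹ᵁ U.1 from hyU)
  have hmap : (I.comap g).ideal W = Ideal.map (g.appLE U.1 W.1 hle).hom (I.ideal U) :=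
    Comap.ideal_comap g I U W hle
  have key : ∃ a ∈ s, ∃ c : Γ(Y, W.1),
      g.appLE U.1 W.1 hle a = c * t ∧ y ∈ Y.basicOpen c := by
    by_contra hcon
    push Not at hcon
    set p := (W.2.primeIdealOf ⟨y, hyW⟩).asIdeal with hp
    have hsub : Ideal.map (g.appLE U.1 W.1 hle).hom (I.ideal U) ≤ p * Ideal.span {t} := by
      rw [← hs, Ideal.map_span, Ideal.span_le]
      rintro _ ⟨a, ha, rfl⟩
      obtain ⟨c, hc⟩ := Ideal.mem_span_singleton'.mp
        (htW ▸ hmap.symm ▸ Ideal.mem_map_of_mem (g.appLE U.1 W.1 hle).hom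
          (hs ▸ Ideal.subset_span ha : a ∈ I.ideal U))
      rw [SetLike.mem_coe, ← hc]
      refine Ideal.mul_mem_mul ?_ (Ideal.mem_span_singleton_self t)
      by_contra hcp
      exact hcon a ha c hc.symm ((EffCartier.mem_basicOpen_iff_notMem_prime W.2 hyW c).mpr hcp)
    obtain ⟨q, hq, hqt⟩ := Ideal.mem_mul_span_singleton.mp
      (hsub (hmap ▸ htW.symm ▸ Ideal.mem_span_singleton_self t))
    have : q = 1 := (mul_cancel_right_mem_nonZeroDivisors ht).mp (hqt.trans (one_mul t).symm)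
    exact (W.2.primeIdealOf ⟨y, hyW⟩).2.ne_top ((Ideal.eq_top_iff_one _).mpr (this ▸ hq))
  obtain ⟨a, ha, c, hac, hyc⟩ := key
  have hle' : Y.basicOpen c ≤ W.1 := Y.basicOpen_le c
  refine ⟨a, ha, ⟨_, W.2.basicOpen c⟩, hle'.trans hle, hyc, ?_⟩
  rw [EffCartier.ideal_eq_span_of_le (U := W) (V := ⟨_, W.2.basicOpen c⟩) hle' htW,
    ← appLE_res g hle' hle, hac, map_mul]
  exact (Ideal.span_singleton_mul_left_unit (RingedSpace.isUnit_res_basicOpen _ c) _).symm

variable (I) in
/-- The glued blow-up. -/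
noncomputable abbrev bl : Scheme.{u} := (localData I).glueData.glued

variable (I) in
/-- The projection of the glued blow-up. -/
noncomputable abbrev blProj : bl I ⟶ X := (localData I).proj

theorem incl_jointly_surjective (x : bl I) : ∃ (i : Idx I) (z : chart i), incl i z = x :=
  (localData I).glueData.ι_jointly_surjective x

theorem exists_mem_range_incl (x : bl I) {U : X.affineOpens} (hx : blProj I x ∈ U.1)
    {s : Set Γ(X, U.1)} (hs : Ideal.span s = I.ideal U) :
    ∃ (a : Γ(X, U.1)) (ha : a ∈ s),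
      x ∈ Set.range (incl (⟨U, a, hs ▸ Ideal.subset_span ha⟩ : Idx I)) := by
  obtain ⟨i, z, rfl⟩ := incl_jointly_surjective x
  have hz : chartMap i z ∈ U.1 := by
    rwa [← incl_proj i, Scheme.Hom.comp_apply]
  obtain ⟨a, ha, h⟩ := exists_genAt_of_span (chartMap i) (effCartier_chartMap i) z hz hs
  exact ⟨a, ha, (mem_range_incl_iff i ⟨U, a, hs ▸ Ideal.subset_span ha⟩ z).mpr h⟩

theorem blProj_incl_mem (i : Idx I) (z : chart i) : blProj I (incl i z) ∈ i.1.1 := by
  rw [← Scheme.Hom.comp_apply, incl_proj]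
  exact top_le_chartMap i (x := z) trivial

theorem preimage_eq_iUnion (U : X.affineOpens) {s : Set Γ(X, U.1)}
    (hs : Ideal.span s = I.ideal U) :
    blProj I ⁻¹' (U.1 : Set X) =
      ⋃ a : s, Set.range (incl (⟨U, a.1, hs ▸ Ideal.subset_span a.2⟩ : Idx I)) := by
  ext x
  simp only [Set.mem_preimage, Set.mem_iUnion]
  constructor
  · intro hx
    obtain ⟨a, ha, h⟩ := exists_mem_range_incl x hx hs
    exact ⟨⟨a, ha⟩, h⟩
  · rintro ⟨a, z, rfl⟩
    exact blProj_incl_mem _ z

theorem quasiCompact_blProj (hI : ∀ U, (I.ideal U).FG) : QuasiCompact (blProj I) := by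
  rw [quasiCompact_iff_forall_isAffineOpen]
  intro U hU
  obtain ⟨s, hs⟩ := hI ⟨U, hU⟩
  show IsCompact (blProj I ⁻¹' (U : Set X))
  rw [preimage_eq_iUnion ⟨U, hU⟩ hs]
  exact isCompact_iUnion fun a => isCompact_range (Scheme.Hom.continuous _)

set_option backward.isDefEq.respectTransparency.types false in
theorem locallyOfFiniteType_blProj (hI : ∀ U, (I.ideal U).FG) :
    LocallyOfFiniteType (blProj I) := by
  refine IsZariskiLocalAtSource.of_openCover (P := @LocallyOfFiniteType.{u})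
    (localData I).glueData.openCover fun (i : Idx I) => ?_
  show LocallyOfFiniteType (incl i ≫ blProj I)
  rw [incl_proj]
  have : IsOpenImmersion i.1.2.fromSpec := IsAffineOpen.isOpenImmersion_fromSpec _
  have : LocallyOfFiniteType (Spec.map (chartRingMap i)) :=
    HasRingHomProperty.Spec_iff.mpr (finiteType_chartRingMap i (hI i.1))
  unfold chartMap
  infer_instance

set_option backward.isDefEq.respectTransparency.types false in
theorem quasiSeparated_blProj (hI : ∀ U, (I.ideal U).FG) : QuasiSeparated (blProj I) := by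
  refine (HasAffineProperty.iff_of_iSup_eq_top (P := @QuasiSeparated.{u})
    (fun U : X.affineOpens => U) (iSup_affineOpens_eq_top X)).mpr fun U => ?_
  obtain ⟨s, hs⟩ := hI U
  let i : {x // x ∈ s} → Idx I := fun a => ⟨U, a.1, hs ▸ Ideal.subset_span a.2⟩
  set P := blProj I ⁻¹ᵁ U.1
  have hle : ∀ a, (incl (i a)).opensRange ≤ P := by
    rintro a _ ⟨z, rfl⟩
    exact blProj_incl_mem _ z
  refine Scheme.quasiSeparatedSpace_of_isOpenCover
    (fun a => P.ι ⁻¹ᵁ (incl (i a)).opensRange) ?_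
    (fun a => (isAffineOpen_opensRange (incl (i a))).preimage_of_isOpenImmersion P.ι
      (by rw [Scheme.Opens.opensRange_ι]; exact hle a)) fun a b => ?_
  · refine TopologicalSpace.IsOpenCover.mk (eq_top_iff.mpr fun x _ => ?_)
    obtain ⟨a, ha, h⟩ := exists_mem_range_incl x.1 x.2 hs
    exact Opens.mem_iSup.mpr ⟨⟨a, ha⟩, h⟩
  · have e : (incl (i a)).opensRange.1 ∩ (incl (i b)).opensRange.1 =
        incl (i a) '' ((chart (i a)).basicOpen
          ((Scheme.ΓSpecIso (chartRing (i a))).inv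
            (frac (i a) (i b).2.2)) : Set (chart (i a))) := by
      ext x
      constructor
      · rintro ⟨⟨z, rfl⟩, hz⟩
        exact ⟨z, (fracPoint_mem (i a) (i b).2.2 z).mp ((mem_range_incl_iff (i a) (i b) z).mp hz), rfl⟩
      · rintro ⟨z, hz, rfl⟩
        exact ⟨⟨z, rfl⟩, (mem_range_incl_iff (i a) (i b) z).mpr
          ((fracPoint_mem (i a) (i b).2.2 z).mpr hz)⟩
    rw [P.ι.isOpenEmbedding.isCompact_iff]
    have hc : IsCompact ((incl (i a)).opensRange.1 ∩ (incl (i b)).opensRange.1) := by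
      rw [e]
      exact (((isAffineOpen_top _).basicOpen _).isCompact).image (Scheme.Hom.continuous _)
    convert hc using 1
    ext x
    constructor
    · rintro ⟨w, hw, rfl⟩
      exact hw
    · intro hx
      exact ⟨⟨x, hle a hx.1⟩, hx, rfl⟩

/-- A morphism from a local scheme lifts to a chart as soon as the closed point does. -/
theorem exists_lift_of_closedPoint {R : Type u} [CommRing R] [IsLocalRing R] (i : Idx I)
    (l : Spec (CommRingCat.of R) ⟶ bl I)
    (h : l (IsLocalRing.closedPoint R) ∈ Set.range (incl i)) :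
    ∃ ψ : chartRing i ⟶ CommRingCat.of R, Spec.map ψ ≫ incl i = l := by
  have hr : Set.range l ⊆ Set.range (incl i) := by
    rintro _ ⟨p, rfl⟩
    exact ((IsLocalRing.specializes_closedPoint p).map l.continuous).mem_open
      (incl i).opensRange.2 h
  exact ⟨Spec.preimage (IsOpenImmersion.lift (incl i) l hr),
    by rw [Spec.map_preimage, IsOpenImmersion.lift_fac]⟩

theorem chartRingMap_comp_eq {R : CommRingCat.{u}} (i : Idx I) (ψ : chartRing i ⟶ R)
    (φ : Γ(X, i.1.1) ⟶ R)
    (h : Spec.map ψ ≫ incl i ≫ blProj I = Spec.map φ ≫ i.1.2.fromSpec) :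
    chartRingMap i ≫ ψ = φ := by
  have : IsOpenImmersion i.1.2.fromSpec := IsAffineOpen.isOpenImmersion_fromSpec _
  refine Spec.map_injective ((cancel_mono i.1.2.fromSpec).mp ?_)
  rw [Spec.map_comp, Category.assoc, ← h, incl_proj]
  rfl

theorem specMap_incl_proj {R : CommRingCat.{u}} (i : Idx I) (ψ : chartRing i ⟶ R) :
    Spec.map ψ ≫ incl i ≫ blProj I = Spec.map (chartRingMap i ≫ ψ) ≫ i.1.2.fromSpec := by
  rw [incl_proj, Spec.map_comp, Category.assoc]
  rfl

section Valuative

variable {R K : Type u} [CommRing R] [IsDomain R] [ValuationRing R] [Field K] [Algebra R K]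
  [IsFractionRing R K]

theorem exists_lift_valuative (i₁ : Spec (CommRingCat.of K) ⟶ bl I)
    (i₂ : Spec (CommRingCat.of R) ⟶ X)
    (w : i₁ ≫ blProj I = Spec.map (CommRingCat.ofHom (algebraMap R K)) ≫ i₂)
    (hI : ∀ U, (I.ideal U).FG) :
    ∃ l : Spec (CommRingCat.of R) ⟶ bl I,
      Spec.map (CommRingCat.ofHom (algebraMap R K)) ≫ l = i₁ ∧ l ≫ blProj I = i₂ := by
  classical
  obtain ⟨U, hU, hxU, -⟩ := exists_isAffineOpen_mem_and_subset
    (show i₂ (IsLocalRing.closedPoint R) ∈ (⊤ : X.Opens) from trivial)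
  have hr : Set.range i₂ ⊆ Set.range hU.fromSpec := by
    rw [hU.range_fromSpec]
    rintro _ ⟨p, rfl⟩
    exact ((IsLocalRing.specializes_closedPoint p).map i₂.continuous).mem_open U.2 hxU
  let φ : Γ(X, U) ⟶ CommRingCat.of R := Spec.preimage (IsOpenImmersion.lift hU.fromSpec i₂ hr)
  have hφ : Spec.map φ ≫ hU.fromSpec = i₂ := by
    rw [Spec.map_preimage, IsOpenImmersion.lift_fac]
  obtain ⟨s, hs⟩ := hI ⟨U, hU⟩
  let pK : Spec (CommRingCat.of K) := IsLocalRing.closedPoint K
  have hpt : blProj I (i₁ (IsLocalRing.closedPoint K)) ∈ U := by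
    show (i₁ ≫ blProj I) pK ∈ U
    rw [w, ← hφ]
    exact hU.range_fromSpec.le ⟨_, rfl⟩
  obtain ⟨a, ha, hmem⟩ := exists_mem_range_incl (i₁ (IsLocalRing.closedPoint K)) hpt hs
  set i : Idx I := ⟨⟨U, hU⟩, a, hs ▸ Ideal.subset_span ha⟩
  obtain ⟨ψ, hψ⟩ := exists_lift_of_closedPoint i i₁ hmem
  have hψφ : chartRingMap i ≫ ψ = φ ≫ CommRingCat.ofHom (algebraMap R K) := by
    refine chartRingMap_comp_eq i ψ _ ?_
    rw [← Category.assoc, hψ, w, Spec.map_comp, Category.assoc, ← hφ]
  have hmemI : ∀ b : {x // x ∈ s}, (b : Γ(X, U)) ∈ I.ideal i.1 :=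
    fun b => hs ▸ Ideal.subset_span b.2
  let v : {x // x ∈ s} → K := fun b => ψ.hom (frac i (hmemI b))
  have hv1 : v ⟨a, ha⟩ = 1 := by
    show ψ.hom (frac i (hmemI ⟨a, ha⟩)) = 1
    rw [show frac i (hmemI ⟨a, ha⟩) = 1 from frac_self i, map_one]
  have : Nonempty {x // x ∈ s} := ⟨⟨a, ha⟩⟩
  obtain ⟨k, hk⟩ := Finite.exists_max (fun b => ValuationRing.valuation R K (v b))
  have hk0 : v k ≠ 0 := by
    intro h0
    have := hk ⟨a, ha⟩
    simp only [h0, hv1, map_one, map_zero] at this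
    exact not_lt.mpr this zero_lt_one
  have hrange : ∀ b, v b / v k ∈ (algebraMap R K).range := by
    intro b
    rw [← ValuationRing.range_algebraMap_eq, Valuation.mem_integer_iff, map_div₀]
    exact div_le_one_of_le₀ (hk b) zero_le
  have hb : (k : Γ(X, U)) ∈ I.ideal i.1 := hmemI k
  have hu : IsUnit (ψ.hom (frac i hb)) := isUnit_iff_ne_zero.mpr hk0
  let ext : ov i hb ⟶ CommRingCat.of K :=
    CommRingCat.ofHom (IsLocalization.Away.lift (S := ov i hb) (frac i hb) (g := ψ.hom) hu)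
  have hext : ovFst i hb ≫ ext = ψ :=
    CommRingCat.hom_ext (IsLocalization.Away.lift_comp (frac i hb) hu)
  have hext' : ∀ x, ext.hom ((ovFst i hb).hom x) = ψ.hom x := fun x =>
    congrArg (fun f => CommRingCat.Hom.hom f x) hext
  let ψj := ovSnd i hb ≫ ext
  have hjφ : chartRingMap (withGen i hb) ≫ ψj = φ ≫ CommRingCat.ofHom (algebraMap R K) := by
    rw [chartRingMap_ovSnd_assoc, hext, hψφ]
  have hcod : ∀ x, ψj.hom x ∈ (algebraMap R K).range := by
    have htop := subring_eq_top (withGen i hb) (Subring.comap ψj.hom (algebraMap R K).range)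
      (fun x => ⟨φ.hom x, (congrArg (fun f => CommRingCat.Hom.hom f x) hjφ).symm⟩) hs
      fun b hbs => by
        show ext.hom ((ovSnd i hb).hom _) ∈ (algebraMap R K).range
        convert hrange ⟨b, hbs⟩ using 1
        rw [eq_div_iff hk0]
        show _ * ψ.hom (frac i hb) = ψ.hom (frac i (hmemI ⟨b, hbs⟩))
        rw [← hext', ← hext', ← map_mul]
        exact congrArg ext.hom (ovSnd_frac_mul i hb (hmemI ⟨b, hbs⟩))
    intro x
    exact (htop.ge (Subring.mem_top x) : x ∈ Subring.comap ψj.hom (algebraMap R K).range)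
  let e : R ≃+* (algebraMap R K).range := RingEquiv.ofBijective (algebraMap R K).rangeRestrict
    ⟨fun x y h => IsFractionRing.injective R K (congrArg Subtype.val h),
      (algebraMap R K).rangeRestrict_surjective⟩
  let ψR : chartRing (withGen i hb) ⟶ CommRingCat.of R :=
    CommRingCat.ofHom (e.symm.toRingHom.comp (ψj.hom.codRestrict _ hcod))
  have hψR : ψR ≫ CommRingCat.ofHom (algebraMap R K) = ψj := by
    refine CommRingCat.hom_ext (RingHom.ext fun x => ?_)
    show algebraMap R K (e.symm ⟨ψj.hom x, hcod x⟩) = ψj.hom x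
    exact congrArg Subtype.val (e.apply_symm_apply ⟨ψj.hom x, hcod x⟩)
  refine ⟨Spec.map ψR ≫ incl (withGen i hb), ?_, ?_⟩
  · rw [← Spec.map_comp_assoc, hψR, Spec.map_comp, Category.assoc, ov_glue,
      ← Spec.map_comp_assoc, hext, hψ]
  · rw [Category.assoc, specMap_incl_proj]
    have : chartRingMap (withGen i hb) ≫ ψR = φ := by
      refine CommRingCat.hom_ext (RingHom.ext fun x => IsFractionRing.injective R K ?_)
      exact congrArg (fun f => CommRingCat.Hom.hom f x)
        ((congrArg (chartRingMap (withGen i hb) ≫ ·) hψR).trans hjφ)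
    rw [this]
    exact hφ

theorem lift_valuative_unique {l l' : Spec (CommRingCat.of R) ⟶ bl I}
    (hK : Spec.map (CommRingCat.ofHom (algebraMap R K)) ≫ l =
      Spec.map (CommRingCat.ofHom (algebraMap R K)) ≫ l')
    (hX : l ≫ blProj I = l' ≫ blProj I) : l = l' := by
  obtain ⟨U, hU, hxU, -⟩ := exists_isAffineOpen_mem_and_subset
    (show (l ≫ blProj I) (IsLocalRing.closedPoint R) ∈ (⊤ : X.Opens) from trivial)
  have hxU' : blProj I (l' (IsLocalRing.closedPoint R)) ∈ U := by
    let pR : Spec (CommRingCat.of R) := IsLocalRing.closedPoint R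
    show (l' ≫ blProj I) pR ∈ U
    rw [← hX]; exact hxU
  obtain ⟨a, ha, hmem⟩ := exists_mem_range_incl (U := ⟨U, hU⟩) (l (IsLocalRing.closedPoint R))
    hxU (s := (I.ideal ⟨U, hU⟩ : Set Γ(X, U))) (Ideal.span_eq _)
  obtain ⟨b, hb, hmem'⟩ := exists_mem_range_incl (U := ⟨U, hU⟩) (l' (IsLocalRing.closedPoint R))
    hxU' (s := (I.ideal ⟨U, hU⟩ : Set Γ(X, U))) (Ideal.span_eq _)
  set i : Idx I := ⟨⟨U, hU⟩, a, ha⟩
  obtain ⟨ψ, rfl⟩ := exists_lift_of_closedPoint i l hmem
  obtain ⟨ψ', rfl⟩ := exists_lift_of_closedPoint (withGen i hb) l' hmem'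
  set ι := CommRingCat.ofHom (algebraMap R K)
  rw [← Spec.map_comp_assoc, ← Spec.map_comp_assoc] at hK
  let p : Spec (CommRingCat.of K) := IsLocalRing.closedPoint K
  have hp : incl i (Spec.map (ψ ≫ ι) p) ∈ Set.range (incl (withGen i hb)) := by
    show (Spec.map (ψ ≫ ι) ≫ incl i) p ∈ _
    rw [hK]
    exact ⟨_, rfl⟩
  have hu : IsUnit ((ψ ≫ ι).hom (frac i hb)) := by
    have h := (fracPoint_mem i hb _).mp ((mem_range_incl_iff i (withGen i hb) _).mp hp)
    rw [basicOpen_eq_of_affine] at h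
    by_contra hne
    rw [isUnit_iff_ne_zero, not_not] at hne
    refine h ?_
    show (ψ ≫ ι).hom (frac i hb) ∈ p.asIdeal
    rw [hne]
    exact zero_mem _
  let ext : ov i hb ⟶ CommRingCat.of K :=
    CommRingCat.ofHom (IsLocalization.Away.lift (S := ov i hb) (frac i hb) (g := (ψ ≫ ι).hom) hu)
  have hext : ovFst i hb ≫ ext = ψ ≫ ι :=
    CommRingCat.hom_ext (IsLocalization.Away.lift_comp (frac i hb) hu)
  have hψ' : ψ' ≫ ι = ovSnd i hb ≫ ext := by
    refine Spec.map_injective ((cancel_mono (incl (withGen i hb))).mp ?_)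
    rw [← hK, Spec.map_comp (ovSnd i hb), Category.assoc, ov_glue, ← Spec.map_comp_assoc, hext]
  have hone : (ι.hom (ψ'.hom (frac (withGen i hb) i.2.2))) * ι.hom (ψ.hom (frac i hb)) = 1 := by
    show (ψ' ≫ ι).hom _ * (ψ ≫ ι).hom _ = 1
    rw [hψ', ← hext]
    show ext.hom ((ovSnd i hb).hom _) * ext.hom ((ovFst i hb).hom _) = 1
    rw [← map_mul, ovSnd_frac_mul i hb i.2.2, frac_self, map_one, map_one]
  have huR : IsUnit (ψ.hom (frac i hb)) := by
    refine IsUnit.of_mul_eq_one (ψ'.hom (frac (withGen i hb) i.2.2)) (IsFractionRing.injective R K ?_)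
    rw [map_mul, map_one, mul_comm]
    exact hone
  let extR : ov i hb ⟶ CommRingCat.of R :=
    CommRingCat.ofHom (IsLocalization.Away.lift (S := ov i hb) (frac i hb) (g := ψ.hom) huR)
  have hextR : ovFst i hb ≫ extR = ψ :=
    CommRingCat.hom_ext (IsLocalization.Away.lift_comp (frac i hb) huR)
  have he : extR ≫ ι = ext := by
    refine CommRingCat.hom_ext (IsLocalization.ringHom_ext (Submonoid.powers (frac i hb)) ?_)
    exact congrArg CommRingCat.Hom.hom (show ovFst i hb ≫ extR ≫ ι = ovFst i hb ≫ ext by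
      rw [hext, ← Category.assoc, hextR])
  have hψR : ψ' = ovSnd i hb ≫ extR := by
    refine CommRingCat.hom_ext (RingHom.ext fun x => IsFractionRing.injective R K ?_)
    exact congrArg (fun f => CommRingCat.Hom.hom f x)
      (show ψ' ≫ ι = (ovSnd i hb ≫ extR) ≫ ι by rw [Category.assoc, he, hψ'])
  rw [hψR, Spec.map_comp, Category.assoc, ov_glue, ← Spec.map_comp_assoc, hextR]

end Valuative

theorem isProper_blProj (hI : ∀ U, (I.ideal U).FG) : IsProper (blProj I) := by
  have := quasiCompact_blProj hI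
  have := quasiSeparated_blProj hI
  have := locallyOfFiniteType_blProj hI
  refine IsProper.of_valuativeCriterion _ ?_
  rw [ValuativeCriterion.iff]
  refine ⟨fun S => ?_, fun S => ⟨fun l l' => ?_⟩⟩
  · obtain ⟨l, h₁, h₂⟩ := exists_lift_valuative S.i₁ S.i₂ S.commSq.w hI
    exact ⟨⟨⟨l, h₁, h₂⟩⟩⟩
  · exact CommSq.LiftStruct.ext (lift_valuative_unique (K := S.K)
      (l.fac_left.trans l'.fac_left.symm) (l.fac_right.trans l'.fac_right.symm))

/-- A blow-up in a centre of finite type is proper. -/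
theorem isProper_of_isBlowUp {X' : Scheme.{u}} {b : X' ⟶ X} (hb : BlowUp.IsBlowUp b I)
    (hI : ∀ U, (I.ideal U).FG) : IsProper b := by
  have := isProper_blProj hI
  obtain ⟨h, hh, -⟩ := hb.2 (bl I) (blProj I) (localData I).Q_proj
  obtain ⟨k, hk⟩ := (localData I).exists_hom b hb.1
  have e₁ : k ≫ h = 𝟙 X' := (hb.2 X' b hb.1).unique (by rw [Category.assoc, hh, hk]) (by simp)
  have e₂ : h ≫ k = 𝟙 (bl I) := (localData I).hom_ext (blProj I) (localData I).Q_proj
    (by rw [Category.assoc, hk, hh]) (by simp)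
  have : IsIso k := ⟨h, e₁, e₂⟩
  rw [← hk]
  infer_instance

end Groth.Agent.Lib.BlowUpExists
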