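import Groth.Agent.Lib.BlowUpExists.Exists

/-!
# The standard open cover of a blow-up
-/

universe u

open CategoryTheory CategoryTheory.Limits AlgebraicGeometry TopologicalSpace Opposite
open Groth.Agent.Lib.Ideal

namespace Groth.Agent.Lib.BlowUpExists

variable {X Y Z : Scheme.{u}} {I : X.IdealSheafData}

/-- A local generator of an inverse image ideal may be chosen among the sections of `I` over any
given affine open below. -/
theorem exists_genAt_mem (g : Y ⟶ X) (hg : BlowUp.IsEffCartierIdeal (I.comap g)) (y : Y)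
    (U : X.affineOpens) (hyU : g y ∈ U.1) :
    ∃ a : I.ideal U, GenAt I g U a.1 y := by
  obtain ⟨W, hyW, hle, t, ht, htW⟩ :=
    EffCartier.exists_gen hg y (show y ∈ g ⁻¹ᵁ U.1 from hyU)
  have hmap : (I.comap g).ideal W = Ideal.map (g.appLE U.1 W.1 hle).hom (I.ideal U) :=
    Comap.ideal_comap g I U W hle
  have key : ∃ a ∈ I.ideal U, ∃ c : Γ(Y, W.1),
      g.appLE U.1 W.1 hle a = c * t ∧ y ∈ Y.basicOpen c := by
    by_contra hcon
    push Not at hcon
    set p := (W.2.primeIdealOf ⟨y, hyW⟩).asIdeal with hp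
    have hsub : Ideal.map (g.appLE U.1 W.1 hle).hom (I.ideal U) ≤ p * Ideal.span {t} := by
      rw [Ideal.map_le_iff_le_comap]
      intro a ha
      obtain ⟨c, hc⟩ := Ideal.mem_span_singleton'.mp
        (htW ▸ hmap.symm ▸ Ideal.mem_map_of_mem (g.appLE U.1 W.1 hle).hom ha)
      rw [Ideal.mem_comap, ← hc]
      refine Ideal.mul_mem_mul ?_ (Ideal.mem_span_singleton_self t)
      by_contra hcp
      exact hcon a ha c hc.symm ((EffCartier.mem_basicOpen_iff_notMem_prime W.2 hyW c).mpr hcp)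
    obtain ⟨q, hq, hqt⟩ := Ideal.mem_mul_span_singleton.mp
      (hsub (hmap ▸ htW.symm ▸ Ideal.mem_span_singleton_self t))
    have : q = 1 := (mul_cancel_right_mem_nonZeroDivisors ht).mp (hqt.trans (one_mul t).symm)
    exact (W.2.primeIdealOf ⟨y, hyW⟩).2.ne_top ((Ideal.eq_top_iff_one _).mpr (this ▸ hq))
  obtain ⟨a, ha, c, hac, hyc⟩ := key
  have hle' : Y.basicOpen c ≤ W.1 := Y.basicOpen_le c
  refine ⟨⟨a, ha⟩, ⟨_, W.2.basicOpen c⟩, hle'.trans hle, hyc, ?_⟩
  rw [EffCartier.ideal_eq_span_of_le (U := W) (V := ⟨_, W.2.basicOpen c⟩) hle' htW,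
    ← appLE_res g hle' hle, hac, map_mul]
  exact (Ideal.span_singleton_mul_left_unit (RingedSpace.isUnit_res_basicOpen _ c) _).symm

/-- Generating near the source implies generating near the image. -/
theorem genAt_of_comp (h : Y ⟶ Z) {g : Z ⟶ X} (hg : BlowUp.IsEffCartierIdeal (I.comap g))
    (hgh : BlowUp.IsEffCartierIdeal (I.comap (h ≫ g))) {U : X.affineOpens} {a : I.ideal U} {y : Y}
    (hP : GenAt I (h ≫ g) U a.1 y) : GenAt I g U a.1 (h y) := by
  obtain ⟨W₀, e₀, hyW₀, hW₀⟩ := hP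
  obtain ⟨a', W', e', hzW', hW'⟩ := exists_genAt_mem g hg (h y) U (e₀ hyW₀)
  have ha : g.appLE U.1 W'.1 e' a.1 ∈ (I.comap g).ideal W' := by
    rw [Comap.ideal_comap g I U W' e']
    exact Ideal.mem_map_of_mem _ a.2
  obtain ⟨c, hc⟩ := Ideal.mem_span_singleton'.mp (hW' ▸ ha)
  obtain ⟨W, hW, hyW, hWle⟩ := exists_isAffineOpen_mem_and_subset
    (show y ∈ W₀.1 ⊓ h ⁻¹ᵁ W'.1 from ⟨hyW₀, hzW'⟩)
  have eW : W ≤ h ⁻¹ᵁ W'.1 := fun z hz => (hWle hz).2
  have h₁ := ideal_eq_span_of_genAt_le (W' := ⟨W, hW⟩) (fun z hz => (hWle hz).1) e₀ hW₀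
  have h₂ : (I.comap (h ≫ g)).ideal ⟨W, hW⟩ =
      Ideal.span {h.appLE W'.1 W eW (g.appLE U.1 W'.1 e' a'.1)} := by
    rw [Scheme.IdealSheafData.comap_comp, Comap.ideal_comap h _ W' ⟨W, hW⟩ eW, hW',
      Ideal.map_span, Set.image_singleton]
  set s := h.appLE W'.1 W eW (g.appLE U.1 W'.1 e' a'.1)
  have hs := gen_mem_nonZeroDivisors hgh h₂
  have e₁ : (h ≫ g).appLE U.1 W (fun z hz => e' (eW hz)) a.1 = h.appLE W'.1 W eW c * s := by
    rw [← map_mul, hc, ← Scheme.Hom.appLE_comp_appLE h g U.1 W'.1 W e' eW]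
    rfl
  obtain ⟨d, hd⟩ := Ideal.mem_span_singleton'.mp
    (h₁ ▸ h₂.symm ▸ Ideal.mem_span_singleton_self s)
  have hu : IsUnit (h.appLE W'.1 W eW c) := by
    refine IsUnit.of_mul_eq_one d ((mul_cancel_right_mem_nonZeroDivisors hs).mp ?_)
    rw [e₁] at hd
    rw [one_mul, mul_comm (h.appLE W'.1 W eW c) d, mul_assoc]
    exact hd
  have hzc : h y ∈ Z.basicOpen c := by
    rw [Z.mem_basicOpen c (h y) hzW']
    have hy := hu.map (Y.presheaf.germ W y hyW).hom
    have e : Y.presheaf.germ W y hyW (h.appLE W'.1 W eW c) =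
        h.stalkMap y (Z.presheaf.germ W'.1 (h y) hzW' c) := by
      rw [Scheme.Hom.germ_stalkMap_apply]
      exact TopCat.Presheaf.germ_res_apply Y.presheaf (homOfLE eW) y hyW _
    rw [e] at hy
    exact (isUnit_map_iff (h.stalkMap y).hom _).mp hy
  have hle : Z.basicOpen c ≤ W'.1 := Z.basicOpen_le c
  refine ⟨⟨_, W'.2.basicOpen c⟩, hle.trans e', hzc, ?_⟩
  rw [EffCartier.ideal_eq_span_of_le (U := W') (V := ⟨_, W'.2.basicOpen c⟩) hle hW',
    ← appLE_res g hle e', ← hc, map_mul]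
  exact (Ideal.span_singleton_mul_left_unit (RingedSpace.isUnit_res_basicOpen _ c) _).symm

/-- The open of `g` where the inverse image ideal is generated by the chart section. -/
def chartOpen (g : Y ⟶ X) (i : Idx I) : Y.Opens :=
  ⟨{z | GenAt I g i.1 i.2.1 z}, isOpen_genAt _ _ _⟩

theorem exists_mem_chartOpen (g : Y ⟶ X) (hg : BlowUp.IsEffCartierIdeal (I.comap g)) (y : Y)
    (U : X.affineOpens) (hyU : g y ∈ U.1) : ∃ a : I.ideal U, y ∈ chartOpen g (⟨U, a⟩ : Idx I) :=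
  exists_genAt_mem g hg y U hyU

/-- The standard charts of a blow-up. -/
theorem exists_chartIso {X' : Scheme.{u}} {b : X' ⟶ X} (hb : BlowUp.IsBlowUp b I) (i : Idx I) :
    ∃ e : (chartOpen b i).toScheme ≅ chart i, e.hom ≫ chartMap i = (chartOpen b i).ι ≫ b := by
  set V := chartOpen b i
  have hQ : BlowUp.IsEffCartierIdeal (I.comap (V.ι ≫ b)) :=
    Scheme.IdealSheafData.comap_comp I V.ι b ▸ EffCartier.isEffCartier_comap_of_flat V.ι hb.1
  obtain ⟨h, hh⟩ := exists_hom_chart i (V.ι ≫ b) hQ fun y => genAt_comp V.ι y.2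
  obtain ⟨k, hk, -⟩ := hb.2 (chart i) (chartMap i) (effCartier_chartMap i)
  have hr : Set.range k ⊆ Set.range V.ι := by
    rw [Scheme.Opens.range_ι]
    rintro _ ⟨z, rfl⟩
    exact genAt_of_comp k hb.1 (hk.symm ▸ effCartier_chartMap i)
      (hk.symm ▸ genAt_chartMap i z)
  let k' := IsOpenImmersion.lift V.ι k hr
  have hk' : k' ≫ V.ι = k := IsOpenImmersion.lift_fac _ _ _
  refine ⟨⟨h, k', ?_, ?_⟩, hh⟩
  · rw [← cancel_mono V.ι, Category.assoc, hk', Category.id_comp]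
    exact (hb.2 _ (V.ι ≫ b) hQ).unique (by rw [Category.assoc, hk, hh]) rfl
  · refine hom_ext_chart (chartMap i) (effCartier_chartMap i) ?_ (Category.id_comp _)
    rw [Category.assoc, hh, ← Category.assoc, hk', hk]

end Groth.Agent.Lib.BlowUpExists
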