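import Mathlib.AlgebraicGeometry.Gluing

/-!
# Gluing objects which are final for Zariski local conditions
-/

universe u

open CategoryTheory CategoryTheory.Limits AlgebraicGeometry

namespace Groth.Agent.Lib.BlowUpExists

/-- Local charts, each final among the morphisms to `X` satisfying `Q` and a local condition `P i`. -/
structure Local (X : Scheme.{u}) where
  /-- The global condition. -/
  Q : ∀ {Y : Scheme.{u}}, (Y ⟶ X) → Prop
  /-- Index type of the charts. -/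
  ι : Type u
  /-- The condition of the chart. -/
  P : ι → ∀ {Y : Scheme.{u}}, (Y ⟶ X) → Prop
  /-- The charts. -/
  C : ι → Scheme.{u}
  /-- The structure maps. -/
  q : ∀ i, C i ⟶ X
  hQ : ∀ i, Q (q i)
  hP : ∀ i, P i (q i)
  P_comp : ∀ i {Y Z : Scheme.{u}} (k : Y ⟶ Z) (g : Z ⟶ X), P i g → P i (k ≫ g)
  Q_open : ∀ {Y Z : Scheme.{u}} (k : Y ⟶ Z) [IsOpenImmersion k] (g : Z ⟶ X), Q g → Q (k ≫ g)
  univ : ∀ i {Y : Scheme.{u}} (g : Y ⟶ X), Q g → P i g → ∃! h : Y ⟶ C i, h ≫ q i = g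
  /-- The overlaps. -/
  V : ∀ i, ι → (C i).Opens
  hV : ∀ i j, P j ((V i j).ι ≫ q i)
  memV : ∀ i j {Y : Scheme.{u}} (h : Y ⟶ C i), Q (h ≫ q i) → P j (h ≫ q i) → ∀ y, h y ∈ V i j
  Q_local : ∀ {Y : Scheme.{u}} (𝒰 : Scheme.OpenCover.{u} Y) (g : Y ⟶ X), (∀ j, Q (𝒰.f j ≫ g)) → Q g
  cover : ∀ {Y : Scheme.{u}} (g : Y ⟶ X), Q g → ∀ y : Y,
    ∃ i, ∃ W : Y.Opens, y ∈ W ∧ P i (W.ι ≫ g)

namespace Local

variable {X : Scheme.{u}} (L : Local X)

theorem ext {i : L.ι} {Y : Scheme.{u}} (g : Y ⟶ X) (hQ : L.Q g) {h h' : Y ⟶ L.C i}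
    (e : h ≫ L.q i = g) (e' : h' ≫ L.q i = g) : h = h' :=
  (L.univ i g hQ (e ▸ L.P_comp i h _ (L.hP i))).unique e e'

theorem exists_t (i j : L.ι) :
    ∃ t : (L.V i j).toScheme ⟶ (L.V j i).toScheme,
      t ≫ (L.V j i).ι ≫ L.q j = (L.V i j).ι ≫ L.q i := by
  have hQ := L.Q_open (L.V i j).ι _ (L.hQ i)
  obtain ⟨h, hh, -⟩ := L.univ j _ hQ (L.hV i j)
  have hr : Set.range h ⊆ Set.range (L.V j i).ι := by
    rw [Scheme.Opens.range_ι]
    rintro _ ⟨y, rfl⟩
    exact L.memV j i h (hh.symm ▸ hQ) (hh.symm ▸ L.P_comp i _ _ (L.hP i)) y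
  exact ⟨IsOpenImmersion.lift _ h hr, by rw [IsOpenImmersion.lift_fac_assoc, hh]⟩

/-- Transition maps. -/
noncomputable def t (i j : L.ι) : (L.V i j).toScheme ⟶ (L.V j i).toScheme :=
  (L.exists_t i j).choose

@[reassoc]
theorem t_q (i j : L.ι) : L.t i j ≫ (L.V j i).ι ≫ L.q j = (L.V i j).ι ≫ L.q i :=
  (L.exists_t i j).choose_spec

theorem V_self (i : L.ι) : L.V i i = ⊤ := by
  ext y
  exact iff_of_true (L.memV i i (𝟙 _) (by simpa using L.hQ i) (by simpa using L.hP i) y) trivial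

theorem exists_t' (i j k : L.ι) :
    ∃ a : pullback (L.V i j).ι (L.V i k).ι ⟶ pullback (L.V j k).ι (L.V j i).ι,
      a ≫ pullback.snd _ _ = pullback.fst _ _ ≫ L.t i j := by
  let p : pullback (L.V i j).ι (L.V i k).ι ⟶ L.C i := pullback.fst _ _ ≫ (L.V i j).ι
  let h : pullback (L.V i j).ι (L.V i k).ι ⟶ L.C j := pullback.fst _ _ ≫ L.t i j ≫ (L.V j i).ι
  have hh : h ≫ L.q j = p ≫ L.q i := by
    simp only [h, p, Category.assoc, L.t_q]
  have hQ : L.Q (h ≫ L.q j) := hh ▸ L.Q_open p _ (L.hQ i)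
  have hP : L.P k (h ≫ L.q j) := by
    rw [hh, show p = pullback.snd _ _ ≫ (L.V i k).ι from pullback.condition, Category.assoc]
    exact L.P_comp k _ _ (L.hV i k)
  have hr : Set.range h ⊆ Set.range (L.V j k).ι := by
    rw [Scheme.Opens.range_ι]
    rintro _ ⟨y, rfl⟩
    exact L.memV j k h hQ hP y
  refine ⟨pullback.lift (IsOpenImmersion.lift _ h hr) (pullback.fst _ _ ≫ L.t i j) ?_,
    pullback.lift_snd _ _ _⟩
  rw [IsOpenImmersion.lift_fac, Category.assoc]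

/-- The gluing datum. -/
noncomputable def glueData : Scheme.GlueData.{u} where
  J := L.ι
  U := L.C
  V ij := (L.V ij.1 ij.2).toScheme
  f i j := (L.V i j).ι
  f_id i := by
    show IsIso (L.V i i).ι
    rw [L.V_self]
    exact (L.C i).topIso.isIso_hom
  t := L.t
  t_id i := by
    rw [← cancel_mono (L.V i i).ι, Category.id_comp]
    exact L.ext _ (L.Q_open (L.V i i).ι _ (L.hQ i)) ((Category.assoc _ _ _).trans (L.t_q i i)) rfl
  t' i j k := (L.exists_t' i j k).choose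
  t_fac i j k := (L.exists_t' i j k).choose_spec
  cocycle i j k := by
    set a := (L.exists_t' i j k).choose
    set b := (L.exists_t' j k i).choose
    set c := (L.exists_t' k i j).choose
    have key : ∀ i j k : L.ι, (L.exists_t' i j k).choose ≫ pullback.fst _ _ ≫ (L.V j k).ι ≫ L.q j =
        pullback.fst _ _ ≫ (L.V i j).ι ≫ L.q i := by
      intro i j k
      rw [pullback.condition_assoc, ← Category.assoc, (L.exists_t' i j k).choose_spec,
        Category.assoc, L.t_q]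
    rw [← cancel_mono (pullback.fst (L.V i j).ι (L.V i k).ι), ← cancel_mono (L.V i j).ι,
      Category.id_comp]
    refine L.ext (pullback.fst _ _ ≫ (L.V i j).ι ≫ L.q i) ?_ ?_ (Category.assoc _ _ _)
    · rw [← Category.assoc]
      exact L.Q_open _ _ (L.hQ i)
    · simp only [Category.assoc]
      rw [key k i j, key j k i, key i j k]
  f_open i j := inferInstance

/-- The projection of the glued scheme. -/
noncomputable def proj : L.glueData.glued ⟶ X :=
  Multicoequalizer.desc L.glueData.toGlueData.diagram _ L.q fun ij => by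
    show (L.V ij.1 ij.2).ι ≫ L.q ij.1 = (L.t ij.1 ij.2 ≫ (L.V ij.2 ij.1).ι) ≫ L.q ij.2
    exact ((Category.assoc _ _ _).trans (L.t_q _ _)).symm

/-- The inclusion of a chart. -/
noncomputable def ιC (i : L.ι) : L.C i ⟶ L.glueData.glued := L.glueData.ι i

instance (i : L.ι) : IsOpenImmersion (L.ιC i) := L.glueData.ι_isOpenImmersion i

@[reassoc]
theorem ι_proj (i : L.ι) : L.ιC i ≫ L.proj = L.q i :=
  Multicoequalizer.π_desc _ _ _ _ _

theorem Q_proj : L.Q L.proj :=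
  L.Q_local L.glueData.openCover _ fun (i : L.ι) => (L.ι_proj i).symm ▸ L.hQ i

theorem hom_ext {Y : Scheme.{u}} (g : Y ⟶ X) (hg : L.Q g) {h h' : Y ⟶ L.glueData.glued}
    (e : h ≫ L.proj = g) (e' : h' ≫ L.proj = g) : h = h' := by
  have loc : ∀ y : Y, ∃ (W : Y.Opens), y ∈ W ∧ W.ι ≫ h = W.ι ≫ h' := by
    intro y
    obtain ⟨i, z, hz⟩ : ∃ (c : L.ι) (w : L.C c), L.ιC c w = h y :=
      L.glueData.ι_jointly_surjective (h y)
    obtain ⟨j, z', hz'⟩ : ∃ (c : L.ι) (w : L.C c), L.ιC c w = h' y :=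
      L.glueData.ι_jointly_surjective (h' y)
    let W := h ⁻¹ᵁ (L.ιC i).opensRange ⊓ h' ⁻¹ᵁ (L.ιC j).opensRange
    refine ⟨W, ⟨⟨z, hz⟩, ⟨z', hz'⟩⟩, ?_⟩
    have hr : Set.range (W.ι ≫ h) ⊆ Set.range (L.ιC i) := by
      rintro _ ⟨w, rfl⟩; exact w.2.1
    have hr' : Set.range (W.ι ≫ h') ⊆ Set.range (L.ιC j) := by
      rintro _ ⟨w, rfl⟩; exact w.2.2
    let k : W.toScheme ⟶ L.C i := IsOpenImmersion.lift (L.ιC i) _ hr
    let k' : W.toScheme ⟶ L.C j := IsOpenImmersion.lift (L.ιC j) _ hr'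
    have hk : k ≫ L.ιC i = W.ι ≫ h := IsOpenImmersion.lift_fac _ _ _
    have hk' : k' ≫ L.ιC j = W.ι ≫ h' := IsOpenImmersion.lift_fac _ _ _
    have hkq : k ≫ L.q i = W.ι ≫ g := by rw [← L.ι_proj i, reassoc_of% hk, e]
    have hkq' : k' ≫ L.q j = W.ι ≫ g := by rw [← L.ι_proj j, reassoc_of% hk', e']
    have hQW := L.Q_open W.ι g hg
    have hrV : Set.range k ⊆ Set.range (L.V i j).ι := by
      rw [Scheme.Opens.range_ι]
      rintro _ ⟨w, rfl⟩
      exact L.memV i j k (hkq.symm ▸ hQW) (hkq ▸ hkq' ▸ L.P_comp j k' _ (L.hP j)) w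
    let m := IsOpenImmersion.lift (L.V i j).ι k hrV
    have hm : m ≫ (L.V i j).ι = k := IsOpenImmersion.lift_fac _ _ _
    have hk'' : m ≫ L.t i j ≫ (L.V j i).ι = k' := by
      refine L.ext (W.ι ≫ g) hQW ?_ hkq'
      rw [Category.assoc, Category.assoc, L.t_q, reassoc_of% hm, hkq]
    have hglue : L.t i j ≫ (L.V j i).ι ≫ L.ιC j = (L.V i j).ι ≫ L.ιC i :=
      L.glueData.glue_condition i j
    rw [← hk, ← hk', ← hk'', ← hm, Category.assoc, Category.assoc, Category.assoc, hglue]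
  choose W hyW hW using loc
  refine (Y.openCoverOfIsOpenCover W (TopologicalSpace.IsOpenCover.mk
    (eq_top_iff.mpr fun y _ => TopologicalSpace.Opens.mem_iSup.mpr ⟨y, hyW y⟩))).hom_ext _ _
    fun y => hW y

theorem exists_hom {Y : Scheme.{u}} (g : Y ⟶ X) (hg : L.Q g) :
    ∃ h : Y ⟶ L.glueData.glued, h ≫ L.proj = g := by
  choose i W hyW hP using L.cover g hg
  choose k hk using fun y => (L.univ (i y) _ (L.Q_open (W y).ι g hg) (hP y)).exists
  let 𝒰 := Y.openCoverOfIsOpenCover W (TopologicalSpace.IsOpenCover.mk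
    (eq_top_iff.mpr fun y _ => TopologicalSpace.Opens.mem_iSup.mpr ⟨y, hyW y⟩))
  refine ⟨𝒰.glueMorphisms (fun y => k y ≫ L.ιC (i y)) fun y y' => ?_, ?_⟩
  · refine L.hom_ext (pullback.fst (W y).ι (W y').ι ≫ (W y).ι ≫ g) ?_ ?_ ?_
    · rw [← Category.assoc]
      exact L.Q_open _ g hg
    · show (pullback.fst (W y).ι (W y').ι ≫ k y ≫ L.ιC (i y)) ≫ L.proj = _
      simp only [Category.assoc, L.ι_proj]
      exact congrArg (pullback.fst _ _ ≫ ·) (hk y)
    · show (pullback.snd (W y).ι (W y').ι ≫ k y' ≫ L.ιC (i y')) ≫ L.proj = _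
      simp only [Category.assoc, L.ι_proj, pullback.condition_assoc]
      exact congrArg (pullback.snd _ _ ≫ ·) (hk y')
  · refine 𝒰.hom_ext _ _ fun y => ?_
    rw [← Category.assoc]
    refine (congrArg (· ≫ L.proj) (𝒰.ι_glueMorphisms _ _ y)).trans ?_
    show (k y ≫ L.ιC (i y)) ≫ L.proj = _
    rw [Category.assoc, L.ι_proj]
    exact hk y

/-- The glued scheme is final. -/
theorem exists_final :
    ∃ (X' : Scheme.{u}) (b : X' ⟶ X), L.Q b ∧
      ∀ (Y : Scheme.{u}) (g : Y ⟶ X), L.Q g → ∃! h : Y ⟶ X', h ≫ b = g := by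
  refine ⟨_, L.proj, L.Q_proj, fun Y g hg => ?_⟩
  obtain ⟨h, hh⟩ := L.exists_hom g hg
  exact ⟨h, hh, fun h' hh' => L.hom_ext g hg hh' hh⟩

end Local

end Groth.Agent.Lib.BlowUpExists
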