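import Groth.Agent.Lib.BlowUpExists.Charts
import Groth.Agent.Lib.BlowUpExists.Glue

/-!
# Existence of blow-ups
-/

universe u

open CategoryTheory CategoryTheory.Limits AlgebraicGeometry TopologicalSpace Opposite
open Groth.Agent.Lib.Ideal

namespace Groth.Agent.Lib.BlowUpExists

variable {X Y : Scheme.{u}} {I : X.IdealSheafData}

/-- Being effective Cartier is local: it can be checked after restriction along open immersions
covering the scheme. -/
theorem effCartier_of_openCover {J : Y.IdealSheafData} (𝒰 : Scheme.OpenCover.{u} Y)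
    (h : ∀ j, BlowUp.IsEffCartierIdeal (J.comap (𝒰.f j))) : BlowUp.IsEffCartierIdeal J := by
  intro y
  obtain ⟨z, hz⟩ := 𝒰.covers y
  obtain ⟨U, hzU, f, hf, hfU⟩ := h _ z
  set k := 𝒰.f (𝒰.idx y)
  have hUV : IsAffineOpen (k ''ᵁ U.1) := U.2.image_of_isOpenImmersion k
  refine ⟨⟨_, hUV⟩, ⟨z, hzU, hz⟩, (k.appIso U.1).inv f, ?_, ?_⟩
  · refine EffCartier.mem_nonZeroDivisors_of_eq_zero fun b hb => ?_
    obtain ⟨b, rfl⟩ := (ConcreteCategory.bijective_of_isIso (k.appIso U.1).inv).2 b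
    rw [← map_mul, map_eq_zero_iff _ (ConcreteCategory.bijective_of_isIso (k.appIso U.1).inv).1] at hb
    rw [(mul_left_mem_nonZeroDivisors_eq_zero_iff hf).mp hb, map_zero]
  · rw [Scheme.IdealSheafData.ideal_comap_of_isOpenImmersion] at hfU
    have := congrArg (Ideal.map (k.appIso U.1).inv.hom) hfU
    rw [Ideal.map_comap_of_surjective _
      (ConcreteCategory.bijective_of_isIso (k.appIso U.1).inv).2, Ideal.map_span,
      Set.image_singleton] at this
    exact this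

theorem isOpen_genAt (g : Y ⟶ X) (U : X.affineOpens) (a : Γ(X, U.1)) :
    IsOpen {y | GenAt I g U a y} := by
  rw [isOpen_iff_forall_mem_open]
  rintro y ⟨W, e, hyW, hW⟩
  exact ⟨W.1, fun z hz => ⟨W, e, hz, hW⟩, W.1.isOpen, hyW⟩

theorem appLE_res (g : Y ⟶ X) {U : X.Opens} {O O' : Y.Opens} (h : O' ≤ O) (e : O ≤ g ⁻¹ᵁ U)
    (a : Γ(X, U)) :
    Y.presheaf.map (homOfLE h).op (g.appLE U O e a) = g.appLE U O' (h.trans e) a := by
  rw [← Scheme.Hom.appLE_map g e (homOfLE h).op]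
  rfl

theorem genAt_chart_mem {i j : Idx I} (h : Y ⟶ chart i)
    (hQ : BlowUp.IsEffCartierIdeal (I.comap (h ≫ chartMap i))) (y : Y)
    (hP : GenAt I (h ≫ chartMap i) j.1 j.2.1 y) : GenAt I (chartMap i) j.1 j.2.1 (h y) := by
  obtain ⟨W₀, e₀, hyW₀, hW₀⟩ := hP
  obtain ⟨O, hO, hzO, hOle⟩ := exists_isAffineOpen_mem_and_subset
    (show h y ∈ chartMap i ⁻¹ᵁ j.1.1 from e₀ hyW₀)
  have eO : O ≤ chartMap i ⁻¹ᵁ j.1.1 := fun z hz => hOle hz
  have eO' : O ≤ chartMap i ⁻¹ᵁ i.1.1 := le_top.trans (top_le_chartMap i)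
  have hOi : (I.comap (chartMap i)).ideal ⟨O, hO⟩ =
      Ideal.span {(chartMap i).appLE i.1.1 O eO' i.2.1} :=
    ideal_eq_span_of_genAt_le le_top (top_le_chartMap i) (ideal_top_chart i)
  have hOj : (chartMap i).appLE j.1.1 O eO j.2.1 ∈ (I.comap (chartMap i)).ideal ⟨O, hO⟩ := by
    rw [Comap.ideal_comap (chartMap i) I j.1 ⟨O, hO⟩ eO]
    exact Ideal.mem_map_of_mem _ j.2.2
  obtain ⟨c, hc⟩ := Ideal.mem_span_singleton'.mp (hOi ▸ hOj)
  obtain ⟨W, hW', hyW, hWle⟩ := exists_isAffineOpen_mem_and_subset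
    (show y ∈ W₀.1 ⊓ h ⁻¹ᵁ O from ⟨hyW₀, hzO⟩)
  have eW : W ≤ h ⁻¹ᵁ O := fun z hz => (hWle hz).2
  have h₁ := ideal_eq_span_of_genAt_le (W' := ⟨W, hW'⟩) (fun z hz => (hWle hz).1) e₀ hW₀
  have h₂ : (I.comap (h ≫ chartMap i)).ideal ⟨W, hW'⟩ =
      Ideal.span {h.appLE O W eW ((chartMap i).appLE i.1.1 O eO' i.2.1)} := by
    rw [Scheme.IdealSheafData.comap_comp, Comap.ideal_comap h _ ⟨O, hO⟩ ⟨W, hW'⟩ eW, hOi,
      Ideal.map_span, Set.image_singleton]
  set s := h.appLE O W eW ((chartMap i).appLE i.1.1 O eO' i.2.1)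
  have hs := gen_mem_nonZeroDivisors hQ h₂
  have e₁ : (h ≫ chartMap i).appLE j.1.1 W (fun z hz => eO (eW hz)) j.2.1 =
      h.appLE O W eW c * s := by
    rw [← map_mul, hc, ← Scheme.Hom.appLE_comp_appLE h (chartMap i) j.1.1 O W eO eW]
    rfl
  obtain ⟨d, hd⟩ := Ideal.mem_span_singleton'.mp
    (h₁ ▸ h₂.symm ▸ Ideal.mem_span_singleton_self s)
  have hu : IsUnit (h.appLE O W eW c) := by
    refine IsUnit.of_mul_eq_one d ((mul_cancel_right_mem_nonZeroDivisors hs).mp ?_)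
    rw [e₁] at hd
    rw [one_mul, mul_comm (h.appLE O W eW c) d, mul_assoc]
    exact hd
  have hzc : h y ∈ (chart i).basicOpen c := by
    rw [(chart i).mem_basicOpen c (h y) hzO]
    have hy := hu.map (Y.presheaf.germ W y hyW).hom
    have e : Y.presheaf.germ W y hyW (h.appLE O W eW c) =
        h.stalkMap y ((chart i).presheaf.germ O (h y) hzO c) := by
      rw [Scheme.Hom.germ_stalkMap_apply]
      exact TopCat.Presheaf.germ_res_apply Y.presheaf (homOfLE eW) y hyW _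
    rw [e] at hy
    exact (isUnit_map_iff (h.stalkMap y).hom _).mp hy
  have hle : (chart i).basicOpen c ≤ O := (chart i).basicOpen_le c
  refine ⟨⟨_, hO.basicOpen c⟩, hle.trans eO, hzc, ?_⟩
  rw [EffCartier.ideal_eq_span_of_le (U := ⟨O, hO⟩) (V := ⟨_, hO.basicOpen c⟩) hle hOi,
    ← appLE_res (chartMap i) hle eO, ← hc, map_mul]
  exact (Ideal.span_singleton_mul_left_unit (RingedSpace.isUnit_res_basicOpen _ c) _).symm

theorem exists_genAt (g : Y ⟶ X) (hg : BlowUp.IsEffCartierIdeal (I.comap g)) (y : Y) :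
    ∃ (i : Idx I) (W : Y.Opens), y ∈ W ∧ ∀ z : W.toScheme, GenAt I (W.ι ≫ g) i.1 i.2.1 z := by
  obtain ⟨U, hU, hyU, -⟩ :=
    exists_isAffineOpen_mem_and_subset (show g y ∈ (⊤ : X.Opens) from trivial)
  obtain ⟨W, hyW, hle, t, ht, htW⟩ :=
    EffCartier.exists_gen hg y (show y ∈ g ⁻¹ᵁ U from hyU)
  have hmap : (I.comap g).ideal W = Ideal.map (g.appLE U W.1 hle).hom (I.ideal ⟨U, hU⟩) :=
    Comap.ideal_comap g I ⟨U, hU⟩ W hle
  have key : ∃ a ∈ I.ideal ⟨U, hU⟩, ∃ c : Γ(Y, W.1),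
      g.appLE U W.1 hle a = c * t ∧ y ∈ Y.basicOpen c := by
    by_contra hcon
    push Not at hcon
    set p := (W.2.primeIdealOf ⟨y, hyW⟩).asIdeal with hp
    have hsub : Ideal.map (g.appLE U W.1 hle).hom (I.ideal ⟨U, hU⟩) ≤ p * Ideal.span {t} := by
      rw [Ideal.map_le_iff_le_comap]
      intro a ha
      obtain ⟨c, hc⟩ := Ideal.mem_span_singleton'.mp
        (htW ▸ hmap.symm ▸ Ideal.mem_map_of_mem (g.appLE U W.1 hle).hom ha)
      rw [Ideal.mem_comap, ← hc]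
      refine Ideal.mul_mem_mul ?_ (Ideal.mem_span_singleton_self t)
      by_contra hcp
      exact hcon a ha c hc.symm ((EffCartier.mem_basicOpen_iff_notMem_prime W.2 hyW c).mpr hcp)
    obtain ⟨q, hq, hqt⟩ := Ideal.mem_mul_span_singleton.mp
      (hsub (hmap ▸ htW.symm ▸ Ideal.mem_span_singleton_self t))
    have : q = 1 := (mul_cancel_right_mem_nonZeroDivisors ht).mp (hqt.trans (one_mul t).symm)
    exact (W.2.primeIdealOf ⟨y, hyW⟩).2.ne_top ((Ideal.eq_top_iff_one _).mpr (this ▸ hq))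
  obtain ⟨a, ha, c, hac, hyc⟩ := key
  refine ⟨⟨⟨U, hU⟩, a, ha⟩, Y.basicOpen c, hyc, fun z => genAt_comp _ ?_⟩
  have hle' : Y.basicOpen c ≤ W.1 := Y.basicOpen_le c
  refine ⟨⟨_, W.2.basicOpen c⟩, hle'.trans hle, z.2, ?_⟩
  rw [EffCartier.ideal_eq_span_of_le (U := W) (V := ⟨_, W.2.basicOpen c⟩) hle' htW,
    ← appLE_res g hle' hle, hac, map_mul]
  exact (Ideal.span_singleton_mul_left_unit (RingedSpace.isUnit_res_basicOpen _ c) _).symm

variable (I) in
/-- The local charts of the blow-up. -/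
noncomputable def localData : Local X where
  Q {_} g := BlowUp.IsEffCartierIdeal (I.comap g)
  ι := Idx I
  P i {_} g := ∀ y, GenAt I g i.1 i.2.1 y
  C := chart
  q := chartMap
  hQ := effCartier_chartMap
  hP := genAt_chartMap
  P_comp _ _ _ k _ h y := genAt_comp k (h (k y))
  Q_open k _ g h := Scheme.IdealSheafData.comap_comp I k g ▸
    EffCartier.isEffCartier_comap_of_flat k h
  univ i _ g hQ hP := by
    obtain ⟨h, hh⟩ := exists_hom_chart i g hQ hP
    exact ⟨h, hh, fun h' hh' => hom_ext_chart g hQ hh' hh⟩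
  V i j := ⟨{z | GenAt I (chartMap i) j.1 j.2.1 z}, isOpen_genAt _ _ _⟩
  hV _ _ y := genAt_comp _ y.2
  memV _ _ _ h hQ hP y := genAt_chart_mem h hQ y (hP y)
  Q_local 𝒰 g h := effCartier_of_openCover 𝒰 fun j =>
    Scheme.IdealSheafData.comap_comp I (𝒰.f j) g ▸ h j
  cover g hg y := exists_genAt g hg y

/-- **Existence of blow-ups.** -/
theorem exists_isBlowUp (X : Scheme.{u}) (I : X.IdealSheafData) :
    ∃ (X' : Scheme.{u}) (b : X' ⟶ X), BlowUp.IsBlowUp b I :=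
  (localData I).exists_final

end Groth.Agent.Lib.BlowUpExists
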