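import Groth.Agent.Lib.Ideal.EffCartier
import Mathlib.RingTheory.Localization.Away.Basic

/-!
# The charts of a blow-up
-/

universe u

open CategoryTheory CategoryTheory.Limits AlgebraicGeometry TopologicalSpace Opposite
open Groth.Agent.Lib.Ideal

namespace Groth.Agent.Lib.BlowUpExists

section Algebra

variable {A : Type u} [CommRing A] (I : Ideal A) (a : A)

theorem algebraMap_gen_mem_nonZeroDivisors :
    algebraMap A (BlowUp.affineAlgebra A I a) a ∈ nonZeroDivisors (BlowUp.affineAlgebra A I a) := by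
  refine EffCartier.mem_nonZeroDivisors_of_eq_zero fun b hb => Subtype.ext ?_
  have h := congrArg (fun r : BlowUp.affineAlgebra A I a => (r : Localization.Away a)) hb
  simp only [Subalgebra.coe_mul, Subalgebra.coe_zero, Subalgebra.coe_algebraMap] at h
  exact ((IsLocalization.Away.algebraMap_isUnit a).mul_right_eq_zero).mp h

theorem map_ideal_eq_span (ha : a ∈ I) :
    Ideal.map (algebraMap A (BlowUp.affineAlgebra A I a)) I =
      Ideal.span {algebraMap A (BlowUp.affineAlgebra A I a) a} := by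
  refine le_antisymm ?_ ((Ideal.span_singleton_le_iff_mem _).mpr (Ideal.mem_map_of_mem _ ha))
  rw [Ideal.map_le_iff_le_comap]
  intro x hx
  refine Ideal.mem_span_singleton'.mpr
    ⟨⟨IsLocalization.mk' (Localization.Away a) x ⟨a, Submonoid.mem_powers a⟩,
      Algebra.subset_adjoin ⟨x, hx, rfl⟩⟩, Subtype.ext ?_⟩
  simp only [Subalgebra.coe_mul, Subalgebra.coe_algebraMap]
  exact IsLocalization.mk'_spec ..

theorem hom_ext_affineAlgebra {B : Type u} [CommRing B]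
    {ψ ψ' : BlowUp.affineAlgebra A I a →+* B}
    (h : ψ.comp (algebraMap A _) = ψ'.comp (algebraMap A _))
    (hnzd : ψ (algebraMap A _ a) ∈ nonZeroDivisors B) : ψ = ψ' := by
  refine RingHom.ext fun r => ?_
  obtain ⟨r, hr⟩ := r
  refine Algebra.adjoin_induction (p := fun r hr => ψ ⟨r, hr⟩ = ψ' ⟨r, hr⟩) ?_ ?_ ?_ ?_ hr
  · rintro q ⟨x, hx, rfl⟩
    apply (mul_cancel_right_mem_nonZeroDivisors hnzd).mp
    rw [show ψ (algebraMap A _ a) = ψ' (algebraMap A _ a) from DFunLike.congr_fun h a] at hnzd ⊢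
    conv_lhs => rw [← show ψ (algebraMap A _ a) = ψ' (algebraMap A _ a) from DFunLike.congr_fun h a]
    rw [← map_mul, ← map_mul]
    have e : ∀ hm, (⟨IsLocalization.mk' (Localization.Away a) x ⟨a, Submonoid.mem_powers a⟩, hm⟩ :
        BlowUp.affineAlgebra A I a) * algebraMap A _ a = algebraMap A _ x := fun hm =>
      Subtype.ext (by simp only [Subalgebra.coe_mul, Subalgebra.coe_algebraMap]
                      exact IsLocalization.mk'_spec ..)
    exact (congrArg ψ (e _)).trans ((DFunLike.congr_fun h x).trans (congrArg ψ' (e _)).symm)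
  · exact fun c => DFunLike.congr_fun h c
  · intro x y hx hy h₁ h₂
    rw [← show (⟨x, hx⟩ : BlowUp.affineAlgebra A I a) + ⟨y, hy⟩ = ⟨x + y, add_mem hx hy⟩ from rfl,
      map_add, map_add, h₁, h₂]
  · intro x y hx hy h₁ h₂
    rw [← show (⟨x, hx⟩ : BlowUp.affineAlgebra A I a) * ⟨y, hy⟩ = ⟨x * y, mul_mem hx hy⟩ from rfl,
      map_mul, map_mul, h₁, h₂]

theorem exists_hom_affineAlgebra {B : Type u} [CommRing B] (φ : A →+* B)
    (hnzd : φ a ∈ nonZeroDivisors B) (hI : ∀ x ∈ I, φ x ∈ Ideal.span {φ a}) :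
    ∃ ψ : BlowUp.affineAlgebra A I a →+* B, ψ.comp (algebraMap A _) = φ := by
  let L := Localization.Away (φ a)
  let ι := algebraMap B L
  have hinj : Function.Injective ι :=
    IsLocalization.injective L (Submonoid.powers_le.mpr hnzd)
  have hu : IsUnit ((ι.comp φ) a) := IsLocalization.Away.algebraMap_isUnit (φ a)
  let Φ : Localization.Away a →+* L := IsLocalization.Away.lift a hu
  have hΦ : ∀ x, Φ (algebraMap A _ x) = ι (φ x) := fun x => IsLocalization.Away.lift_eq a hu x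
  have hmem : ∀ r ∈ BlowUp.affineAlgebra A I a, Φ r ∈ ι.range := by
    intro r hr
    refine Algebra.adjoin_induction (p := fun r _ => Φ r ∈ ι.range) ?_ ?_ ?_ ?_ hr
    · rintro q ⟨x, hx, rfl⟩
      obtain ⟨c, hc⟩ := Ideal.mem_span_singleton'.mp (hI x hx)
      refine ⟨c, hu.mul_left_inj.mp ?_⟩
      rw [RingHom.comp_apply, ← map_mul, hc, ← hΦ a, ← map_mul, IsLocalization.mk'_spec, hΦ]
    · exact fun c => ⟨φ c, (hΦ c).symm⟩
    · intro x y _ _ h₁ h₂; rw [map_add]; exact add_mem h₁ h₂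
    · intro x y _ _ h₁ h₂; rw [map_mul]; exact mul_mem h₁ h₂
  let e : B ≃+* ι.range := RingEquiv.ofBijective ι.rangeRestrict
    ⟨fun x y h => hinj (congrArg Subtype.val h), ι.rangeRestrict_surjective⟩
  let Φ' : BlowUp.affineAlgebra A I a →+* ι.range :=
    (Φ.comp (BlowUp.affineAlgebra A I a).val.toRingHom).codRestrict ι.range fun r => hmem _ r.2
  refine ⟨(e.symm : ι.range →+* B).comp Φ', RingHom.ext fun x => e.injective ?_⟩
  simp only [RingHom.comp_apply, RingEquiv.coe_toRingHom, RingEquiv.apply_symm_apply]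
  exact Subtype.ext (hΦ x)

end Algebra

variable {X Y Z : Scheme.{u}}

/-- A generator of an effective Cartier ideal on an affine open is a nonzerodivisor. -/
theorem gen_mem_nonZeroDivisors {J : X.IdealSheafData} (hJ : BlowUp.IsEffCartierIdeal J)
    {W : X.affineOpens} {s : Γ(X, W.1)} (hs : J.ideal W = Ideal.span {s}) :
    s ∈ nonZeroDivisors Γ(X, W.1) := by
  refine EffCartier.mem_nonZeroDivisors_of_germ fun x hx => ?_
  obtain ⟨V, hxV, hle, f, hf, hfJ⟩ := EffCartier.exists_gen hJ x hx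
  rw [← TopCat.Presheaf.germ_res_apply X.presheaf (homOfLE hle) x hxV]
  refine EffCartier.germ_mem_nonZeroDivisors V.2 ?_ x hxV
  have hV := EffCartier.ideal_eq_span_of_le hle hs
  obtain ⟨k, hk⟩ := Ideal.mem_span_singleton'.mp (hV ▸ hfJ.symm ▸ Ideal.mem_span_singleton_self f)
  rw [← hk, mul_mem_nonZeroDivisors] at hf
  exact hf.2

/-- The ideal of `I.comap g` is generated near `y` by the pull-back of `a`. -/
def GenAt (I : X.IdealSheafData) (g : Y ⟶ X) (U : X.affineOpens) (a : Γ(X, U.1)) (y : Y) : Prop :=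
  ∃ (W : Y.affineOpens) (e : W.1 ≤ g ⁻¹ᵁ U.1), y ∈ W.1 ∧
    (I.comap g).ideal W = Ideal.span {g.appLE U.1 W.1 e a}

variable {I : X.IdealSheafData}

theorem ideal_eq_span_of_genAt_le {g : Y ⟶ X} {U : X.affineOpens} {a : Γ(X, U.1)}
    {W W' : Y.affineOpens} (h : W'.1 ≤ W.1) (e : W.1 ≤ g ⁻¹ᵁ U.1)
    (hW : (I.comap g).ideal W = Ideal.span {g.appLE U.1 W.1 e a}) :
    (I.comap g).ideal W' = Ideal.span {g.appLE U.1 W'.1 (h.trans e) a} := by
  rw [EffCartier.ideal_eq_span_of_le h hW, ← Scheme.Hom.appLE_map g e (homOfLE h).op]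
  rfl

theorem GenAt.exists_le {g : Y ⟶ X} {U : X.affineOpens} {a : Γ(X, U.1)} {y : Y}
    (h : GenAt I g U a y) {O : Y.Opens} (hy : y ∈ O) :
    ∃ (W : Y.affineOpens) (e : W.1 ≤ g ⁻¹ᵁ U.1), y ∈ W.1 ∧ W.1 ≤ O ∧
      (I.comap g).ideal W = Ideal.span {g.appLE U.1 W.1 e a} := by
  obtain ⟨W, e, hyW, hW⟩ := h
  obtain ⟨W', hW', hyW', hle⟩ := exists_isAffineOpen_mem_and_subset
    (show y ∈ W.1 ⊓ O from ⟨hyW, hy⟩)
  exact ⟨⟨W', hW'⟩, _, hyW', fun z hz => (hle hz).2,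
    ideal_eq_span_of_genAt_le (fun z hz => (hle hz).1) e hW⟩

theorem genAt_comp (k : Y ⟶ Z) {g : Z ⟶ X} {U : X.affineOpens} {a : Γ(X, U.1)} {y : Y}
    (h : GenAt I g U a (k y)) : GenAt I (k ≫ g) U a y := by
  obtain ⟨W, e, hyW, hW⟩ := h
  obtain ⟨W', hW', hyW', hle⟩ := exists_isAffineOpen_mem_and_subset (show y ∈ k ⁻¹ᵁ W.1 from hyW)
  refine ⟨⟨W', hW'⟩, fun z hz => e (hle hz), hyW', ?_⟩
  rw [Scheme.IdealSheafData.comap_comp,
    Comap.ideal_comap k _ W ⟨W', hW'⟩ (fun z hz => hle hz), hW, Ideal.map_span,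
    Set.image_singleton, ← Scheme.Hom.appLE_comp_appLE k g U.1 W.1 W' e (fun z hz => hle hz)]
  rfl

variable (I) in
/-- Index of a chart. -/
def Idx : Type u := Σ U : X.affineOpens, ↥(I.ideal U)

variable {U : X.affineOpens} {R : CommRingCat.{u}}

theorem top_le_specMap_fromSpec (φ : Γ(X, U.1) ⟶ R) :
    (⊤ : (Spec R).Opens) ≤ (Spec.map φ ≫ U.2.fromSpec) ⁻¹ᵁ U.1 := by
  intro z _
  show U.2.fromSpec (Spec.map φ z) ∈ U.1
  exact U.2.range_fromSpec.le ⟨_, rfl⟩

theorem appLE_specMap_fromSpec (φ : Γ(X, U.1) ⟶ R) :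
    (Spec.map φ ≫ U.2.fromSpec).appLE U.1 ⊤ (top_le_specMap_fromSpec φ) =
      φ ≫ (Scheme.ΓSpecIso R).inv := by
  have e₁ : (⊤ : (Spec Γ(X, U.1)).Opens) ≤ U.2.fromSpec ⁻¹ᵁ U.1 := by
    intro z _
    exact U.2.range_fromSpec.le ⟨_, rfl⟩
  have h₁ : U.2.fromSpec.appLE U.1 ⊤ e₁ = (Scheme.ΓSpecIso Γ(X, U.1)).inv := by
    rw [Scheme.Hom.appLE, U.2.fromSpec_app_self, Category.assoc, ← Functor.map_comp]
    exact (congrArg (_ ≫ ·) (CategoryTheory.Functor.map_id _ _)).trans (Category.comp_id _)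
  rw [← Scheme.Hom.appLE_comp_appLE (Spec.map φ) U.2.fromSpec U.1 ⊤ ⊤ e₁ (fun _ _ => trivial), h₁,
    Scheme.ΓSpecIso_inv_naturality]
  congr 1

theorem ideal_top_specMap_fromSpec (φ : Γ(X, U.1) ⟶ R) (a : Γ(X, U.1))
    (h : Ideal.map φ.hom (I.ideal U) = Ideal.span {φ.hom a}) :
    (I.comap (Spec.map φ ≫ U.2.fromSpec)).ideal ⟨⊤, isAffineOpen_top _⟩ =
      Ideal.span {(Spec.map φ ≫ U.2.fromSpec).appLE U.1 ⊤ (top_le_specMap_fromSpec φ) a} := by
  rw [Comap.ideal_comap _ I U ⟨⊤, isAffineOpen_top _⟩ (top_le_specMap_fromSpec φ),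
    appLE_specMap_fromSpec, CommRingCat.hom_comp, ← Ideal.map_map, h, Ideal.map_span,
    Set.image_singleton]
  rfl

/-- The ring of a chart. -/
noncomputable def chartRing (i : Idx I) : CommRingCat.{u} :=
  CommRingCat.of (BlowUp.affineAlgebra Γ(X, i.1.1) (I.ideal i.1) i.2.1)

/-- The structure map of the ring of a chart. -/
noncomputable def chartRingMap (i : Idx I) : Γ(X, i.1.1) ⟶ chartRing i :=
  CommRingCat.ofHom (algebraMap Γ(X, i.1.1) (BlowUp.affineAlgebra Γ(X, i.1.1) (I.ideal i.1) i.2.1))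

theorem chartRingMap_map_ideal (i : Idx I) :
    Ideal.map (chartRingMap i).hom (I.ideal i.1) = Ideal.span {(chartRingMap i).hom i.2.1} :=
  map_ideal_eq_span _ _ i.2.2

theorem chartRingMap_gen_mem_nonZeroDivisors (i : Idx I) :
    (chartRingMap i).hom i.2.1 ∈ nonZeroDivisors (chartRing i) :=
  algebraMap_gen_mem_nonZeroDivisors _ _

theorem chartRing_hom_ext (i : Idx I) {B : CommRingCat.{u}} {ψ ψ' : chartRing i ⟶ B}
    (h : chartRingMap i ≫ ψ = chartRingMap i ≫ ψ')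
    (hnzd : (chartRingMap i ≫ ψ).hom i.2.1 ∈ nonZeroDivisors B) : ψ = ψ' :=
  CommRingCat.hom_ext (hom_ext_affineAlgebra _ _ (congrArg CommRingCat.Hom.hom h) hnzd)

theorem exists_chartRing_hom (i : Idx I) {B : CommRingCat.{u}} (φ : Γ(X, i.1.1) ⟶ B)
    (hnzd : φ.hom i.2.1 ∈ nonZeroDivisors B)
    (hI : ∀ x ∈ I.ideal i.1, φ.hom x ∈ Ideal.span {φ.hom i.2.1}) :
    ∃ ψ : chartRing i ⟶ B, chartRingMap i ≫ ψ = φ := by
  obtain ⟨ψ, hψ⟩ := exists_hom_affineAlgebra _ _ φ.hom hnzd hI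
  exact ⟨CommRingCat.ofHom ψ, CommRingCat.hom_ext hψ⟩

/-- A chart. -/
noncomputable abbrev chart (i : Idx I) : Scheme.{u} := Spec (chartRing i)

/-- The structure map of a chart. -/
noncomputable def chartMap (i : Idx I) : chart i ⟶ X :=
  Spec.map (chartRingMap i) ≫ i.1.2.fromSpec

theorem top_le_chartMap (i : Idx I) : (⊤ : (chart i).Opens) ≤ chartMap i ⁻¹ᵁ i.1.1 :=
  top_le_specMap_fromSpec _

theorem ideal_top_chart (i : Idx I) :
    (I.comap (chartMap i)).ideal ⟨⊤, isAffineOpen_top _⟩ =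
      Ideal.span {(chartMap i).appLE i.1.1 ⊤ (top_le_chartMap i) i.2.1} :=
  ideal_top_specMap_fromSpec (chartRingMap i) i.2.1 (chartRingMap_map_ideal i)

theorem appLE_chartMap (i : Idx I) :
    (chartMap i).appLE i.1.1 ⊤ (top_le_chartMap i) =
      chartRingMap i ≫ (Scheme.ΓSpecIso _).inv :=
  appLE_specMap_fromSpec _

theorem genAt_chartMap (i : Idx I) (z : chart i) : GenAt I (chartMap i) i.1 i.2.1 z :=
  ⟨⟨⊤, isAffineOpen_top _⟩, top_le_chartMap i, trivial, ideal_top_chart i⟩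

theorem effCartier_chartMap (i : Idx I) : BlowUp.IsEffCartierIdeal (I.comap (chartMap i)) := by
  intro z
  refine ⟨⟨⊤, isAffineOpen_top _⟩, trivial, _, ?_, ideal_top_chart i⟩
  rw [appLE_chartMap]
  refine EffCartier.mem_nonZeroDivisors_of_eq_zero fun b hb => ?_
  obtain ⟨b, rfl⟩ :=
    (ConcreteCategory.bijective_of_isIso (Scheme.ΓSpecIso (chartRing i)).inv).2 b
  rw [CommRingCat.comp_apply, ← map_mul,
    map_eq_zero_iff _ (ConcreteCategory.bijective_of_isIso (Scheme.ΓSpecIso (chartRing i)).inv).1] at hb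
  rw [(mul_left_mem_nonZeroDivisors_eq_zero_iff (chartRingMap_gen_mem_nonZeroDivisors i)).mp hb,
    map_zero]

theorem hom_ext_chart {i : Idx I} (g : Y ⟶ X) (hg : BlowUp.IsEffCartierIdeal (I.comap g))
    {h h' : Y ⟶ chart i} (e : h ≫ chartMap i = g) (e' : h' ≫ chartMap i = g) : h = h' := by
  have loc : ∀ y : Y, ∃ W : Y.affineOpens, y ∈ W.1 ∧ W.1.ι ≫ h = W.1.ι ≫ h' := by
    intro y
    obtain ⟨W, he, hyW, hW⟩ := e ▸ genAt_comp h (genAt_chartMap i (h y))
    refine ⟨W, hyW, ?_⟩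
    have hnzd := gen_mem_nonZeroDivisors hg hW
    rw [← W.2.isoSpec_hom_fromSpec, Category.assoc, Category.assoc]
    congr 1
    obtain ⟨ψ, hψ⟩ : ∃ ψ, Spec.map ψ = W.2.fromSpec ≫ h := ⟨Spec.preimage _, Spec.map_preimage _⟩
    obtain ⟨ψ', hψ'⟩ : ∃ ψ, Spec.map ψ = W.2.fromSpec ≫ h' := ⟨Spec.preimage _, Spec.map_preimage _⟩
    have key : ∀ (k : Y ⟶ chart i) (χ : _ ⟶ Γ(Y, W.1)), k ≫ chartMap i = g →
        Spec.map χ = W.2.fromSpec ≫ k →
        chartRingMap i ≫ χ = g.appLE i.1.1 W.1 he := by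
      intro k χ hk hχ
      have : IsOpenImmersion i.1.2.fromSpec := IsAffineOpen.isOpenImmersion_fromSpec _
      refine Spec.map_injective ?_
      rw [← cancel_mono i.1.2.fromSpec, IsAffineOpen.SpecMap_appLE_fromSpec g i.1.2 W.2 he,
        Spec.map_comp, Category.assoc, ← hk]
      exact (congrArg (· ≫ chartMap i) hχ).trans (Category.assoc _ _ _)
    have h₁ := key h ψ e hψ
    have h₂ := key h' ψ' e' hψ'
    rw [← hψ, ← hψ']
    congr 1
    exact chartRing_hom_ext i (h₁.trans h₂.symm) (h₁ ▸ hnzd)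
  choose W hyW hW using loc
  exact (Y.openCoverOfIsOpenCover (fun y => (W y).1) (TopologicalSpace.IsOpenCover.mk
    (eq_top_iff.mpr fun y _ => Opens.mem_iSup.mpr ⟨y, hyW y⟩))).hom_ext _ _ fun y => hW y

theorem exists_hom_chart (i : Idx I) (g : Y ⟶ X) (hg : BlowUp.IsEffCartierIdeal (I.comap g))
    (hP : ∀ y, GenAt I g i.1 i.2.1 y) : ∃ h : Y ⟶ chart i, h ≫ chartMap i = g := by
  choose W he hyW hW using hP
  have loc : ∀ y : Y, ∃ k : (W y).1.toScheme ⟶ chart i, k ≫ chartMap i = (W y).1.ι ≫ g := by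
    intro y
    obtain ⟨ψ, hψ⟩ := exists_chartRing_hom i (g.appLE i.1.1 _ (he y))
      (gen_mem_nonZeroDivisors hg (hW y)) fun x hx => by
        rw [← hW y, Comap.ideal_comap g I i.1 (W y) (he y)]
        exact Ideal.mem_map_of_mem _ hx
    refine ⟨(W y).2.isoSpec.hom ≫ Spec.map ψ, ?_⟩
    refine (Category.assoc _ _ _).trans ?_
    have e : Spec.map ψ ≫ chartMap i = (W y).2.fromSpec ≫ g := by
      refine (Category.assoc _ _ _).symm.trans ?_
      rw [← Spec.map_comp, hψ]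
      exact IsAffineOpen.SpecMap_appLE_fromSpec g i.1.2 (W y).2 (he y)
    exact (congrArg ((W y).2.isoSpec.hom ≫ ·) e).trans
      (IsAffineOpen.isoSpec_hom_fromSpec_assoc _ _)
  choose k hk using loc
  let 𝒰 := Y.openCoverOfIsOpenCover (fun y => (W y).1) (TopologicalSpace.IsOpenCover.mk
    (eq_top_iff.mpr fun y _ => Opens.mem_iSup.mpr ⟨y, hyW y⟩))
  refine ⟨𝒰.glueMorphisms k fun y y' => ?_, 𝒰.hom_ext _ _ fun y => ?_⟩
  · refine hom_ext_chart (pullback.fst (W y).1.ι (W y').1.ι ≫ (W y).1.ι ≫ g) ?_ ?_ ?_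
    · rw [← Category.assoc, Scheme.IdealSheafData.comap_comp]
      exact EffCartier.isEffCartier_comap_of_flat _ hg
    · exact (Category.assoc _ _ _).trans (congrArg (pullback.fst _ _ ≫ ·) (hk y))
    · refine (Category.assoc _ _ _).trans ((congrArg (pullback.snd _ _ ≫ ·) (hk y')).trans ?_)
      exact (pullback.condition_assoc g).symm
  · rw [← Category.assoc]
    exact (congrArg (· ≫ chartMap i) (𝒰.ι_glueMorphisms _ _ y)).trans (hk y)

end Groth.Agent.Lib.BlowUpExists
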