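import Groth.Agent.Lib.BlowUpExists.Exists
import Mathlib.RingTheory.FiniteType

/-!
# Fractions in the rings of the charts, and the overlap of two charts over the same affine open
-/

universe u

open CategoryTheory CategoryTheory.Limits AlgebraicGeometry TopologicalSpace Opposite
open Groth.Agent.Lib.Ideal

namespace Groth.Agent.Lib.BlowUpExists

variable {X : Scheme.{u}} {I : X.IdealSheafData}

/-- The chart over the same open with another parameter. -/
abbrev withGen (i : Idx I) {b : Γ(X, i.1.1)} (hb : b ∈ I.ideal i.1) : Idx I := ⟨i.1, b, hb⟩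

section Algebra

variable {A : Type u} [CommRing A] {J : Ideal A} {a : A}

/-- The fraction `x / a` in an affine blow-up algebra. -/
noncomputable def afrac {x : A} (hx : x ∈ J) : BlowUp.affineAlgebra A J a :=
  ⟨IsLocalization.mk' (Localization.Away a) x ⟨a, Submonoid.mem_powers a⟩,
    Algebra.subset_adjoin ⟨x, hx, rfl⟩⟩

theorem afrac_spec {x : A} (hx : x ∈ J) :
    (afrac hx : BlowUp.affineAlgebra A J a) * algebraMap A _ a = algebraMap A _ x :=
  Subtype.ext (IsLocalization.mk'_spec _ _ _)

theorem asubring_eq_top (ha : algebraMap A (BlowUp.affineAlgebra A J a) a ∈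
      nonZeroDivisors (BlowUp.affineAlgebra A J a))
    (T : Subring (BlowUp.affineAlgebra A J a)) (hT : ∀ x, algebraMap A _ x ∈ T) {s : Set A}
    (hs : Ideal.span s = J)
    (hfrac : ∀ (b) (hb : b ∈ s), afrac (hs ▸ Ideal.subset_span hb) ∈ T) : T = ⊤ := by
  subst hs
  have key : ∀ x (hx : x ∈ Ideal.span s),
      (afrac hx : BlowUp.affineAlgebra A (Ideal.span s) a) ∈ T := by
    intro x hx
    induction hx using Submodule.span_induction with
    | mem x hx => exact hfrac x hx
    | zero =>
      rw [show (afrac (zero_mem (Ideal.span s)) : BlowUp.affineAlgebra A (Ideal.span s) a) = 0 from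
        (mul_cancel_right_mem_nonZeroDivisors ha).mp (by rw [afrac_spec, map_zero, zero_mul])]
      exact zero_mem T
    | add x y hx hy h₁ h₂ =>
      rw [show (afrac (add_mem hx hy) : BlowUp.affineAlgebra A (Ideal.span s) a) =
          afrac hx + afrac hy from
        (mul_cancel_right_mem_nonZeroDivisors ha).mp
          (by rw [add_mul, afrac_spec, afrac_spec, afrac_spec, map_add])]
      exact add_mem h₁ h₂
    | smul c x hx h₁ =>
      rw [show (afrac (Submodule.smul_mem _ c hx) : BlowUp.affineAlgebra A (Ideal.span s) a) =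
          algebraMap A _ c * afrac hx from
        (mul_cancel_right_mem_nonZeroDivisors ha).mp
          (by rw [mul_assoc, afrac_spec, afrac_spec, smul_eq_mul, map_mul])]
      exact mul_mem (hT c) h₁
  refine eq_top_iff.mpr fun r _ => ?_
  obtain ⟨r, hr⟩ := r
  refine Algebra.adjoin_induction
    (p := fun r hr => (⟨r, hr⟩ : BlowUp.affineAlgebra A (Ideal.span s) a) ∈ T) ?_ ?_ ?_ ?_ hr
  · rintro q ⟨x, hx, rfl⟩
    exact key x hx
  · exact hT
  · exact fun x y hx hy h₁ h₂ => add_mem h₁ h₂
  · exact fun x y hx hy h₁ h₂ => mul_mem h₁ h₂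

theorem finiteType_affineAlgebra (ha : algebraMap A (BlowUp.affineAlgebra A J a) a ∈
      nonZeroDivisors (BlowUp.affineAlgebra A J a)) (hfg : J.FG) :
    Algebra.FiniteType A (BlowUp.affineAlgebra A J a) := by
  classical
  obtain ⟨s, hs⟩ := hfg
  subst hs
  let t : Finset (BlowUp.affineAlgebra A (Ideal.span (s : Set A)) a) :=
    s.attach.image fun b => afrac (Ideal.subset_span b.2)
  refine ⟨⟨t, eq_top_iff.mpr fun x _ => ?_⟩⟩
  have := asubring_eq_top ha (Algebra.adjoin A (t : Set _)).toSubring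
    (fun x => Subalgebra.algebraMap_mem _ x) rfl fun b hb =>
      Algebra.subset_adjoin (Finset.mem_image.mpr ⟨⟨b, hb⟩, Finset.mem_attach _ _, rfl⟩)
  exact (eq_top_iff.mp this) (Subring.mem_top x)

end Algebra

/-- The fraction `b / a` in the ring of a chart. -/
noncomputable def frac (i : Idx I) {b : Γ(X, i.1.1)} (hb : b ∈ I.ideal i.1) : chartRing i :=
  afrac (a := (i.2.1 : Γ(X, i.1.1))) hb

theorem frac_spec (i : Idx I) {b : Γ(X, i.1.1)} (hb : b ∈ I.ideal i.1) :
    frac i hb * (chartRingMap i).hom i.2.1 = (chartRingMap i).hom b :=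
  afrac_spec hb

theorem frac_self (i : Idx I) : frac i i.2.2 = 1 :=
  (mul_cancel_right_mem_nonZeroDivisors (chartRingMap_gen_mem_nonZeroDivisors i)).mp
    ((frac_spec i i.2.2).trans (one_mul _).symm)

theorem subring_eq_top (i : Idx I) (T : Subring (chartRing i))
    (hT : ∀ x, (chartRingMap i).hom x ∈ T) {s : Set Γ(X, i.1.1)}
    (hs : Ideal.span s = I.ideal i.1)
    (hfrac : ∀ (b) (hb : b ∈ s), frac i (hs ▸ Ideal.subset_span hb) ∈ T) : T = ⊤ :=
  asubring_eq_top (algebraMap_gen_mem_nonZeroDivisors _ _) T hT hs hfrac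

theorem finiteType_chartRingMap (i : Idx I) (hfg : (I.ideal i.1).FG) :
    (chartRingMap i).hom.FiniteType :=
  (RingHom.finiteType_algebraMap.mpr
    (finiteType_affineAlgebra (algebraMap_gen_mem_nonZeroDivisors (I.ideal i.1) (i.2.1 : Γ(X, i.1.1))) hfg) :
    RingHom.FiniteType (algebraMap Γ(X, i.1.1)
      (BlowUp.affineAlgebra Γ(X, i.1.1) (I.ideal i.1) i.2.1)))

/-- The ring of the overlap of the charts of `a` and `b`, seen in the chart of `a`. -/
noncomputable def ov (i : Idx I) {b : Γ(X, i.1.1)} (hb : b ∈ I.ideal i.1) : CommRingCat.{u} :=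
  CommRingCat.of (Localization.Away (M := chartRing i) (frac i hb))

noncomputable instance (i : Idx I) {b : Γ(X, i.1.1)} (hb : b ∈ I.ideal i.1) :
    Algebra (chartRing i) (ov i hb) :=
  inferInstanceAs (Algebra (chartRing i) (Localization.Away (M := chartRing i) (frac i hb)))

instance (i : Idx I) {b : Γ(X, i.1.1)} (hb : b ∈ I.ideal i.1) :
    IsLocalization.Away (frac i hb) (ov i hb) :=
  inferInstanceAs (IsLocalization.Away (frac i hb) (Localization.Away (M := chartRing i) (frac i hb)))

/-- Restriction to the overlap. -/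
noncomputable def ovFst (i : Idx I) {b : Γ(X, i.1.1)} (hb : b ∈ I.ideal i.1) :
    chartRing i ⟶ ov i hb :=
  CommRingCat.ofHom (algebraMap (chartRing i) (ov i hb))

theorem isUnit_ovFst_frac (i : Idx I) {b : Γ(X, i.1.1)} (hb : b ∈ I.ideal i.1) :
    IsUnit ((ovFst i hb).hom (frac i hb)) :=
  IsLocalization.Away.algebraMap_isUnit _

theorem isOpenImmersion_ovFst (i : Idx I) {b : Γ(X, i.1.1)} (hb : b ∈ I.ideal i.1) :
    IsOpenImmersion (Spec.map (ovFst i hb)) :=
  IsOpenImmersion.of_isLocalization (R := chartRing i) (S := ov i hb) (frac i hb)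

theorem ov_gen_mem_nonZeroDivisors (i : Idx I) {b : Γ(X, i.1.1)} (hb : b ∈ I.ideal i.1) :
    (ovFst i hb).hom ((chartRingMap i).hom i.2.1) ∈ nonZeroDivisors (ov i hb) :=
  IsLocalization.map_nonZeroDivisors_le (Submonoid.powers (frac i hb)) (ov i hb)
    (Submonoid.mem_map_of_mem _ (chartRingMap_gen_mem_nonZeroDivisors i))

theorem ov_gen'_mem_nonZeroDivisors (i : Idx I) {b : Γ(X, i.1.1)} (hb : b ∈ I.ideal i.1) :
    (ovFst i hb).hom ((chartRingMap i).hom b) ∈ nonZeroDivisors (ov i hb) := by
  rw [← frac_spec i hb, map_mul]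
  exact Submonoid.mul_mem _ (isUnit_ovFst_frac i hb).mem_nonZeroDivisors
    (ov_gen_mem_nonZeroDivisors i hb)

theorem exists_ovSnd (i : Idx I) {b : Γ(X, i.1.1)} (hb : b ∈ I.ideal i.1) :
    ∃ ζ : chartRing (withGen i hb) ⟶ ov i hb,
      chartRingMap (withGen i hb) ≫ ζ = chartRingMap i ≫ ovFst i hb := by
  refine exists_chartRing_hom _ _ (ov_gen'_mem_nonZeroDivisors i hb) fun x hx => ?_
  obtain ⟨d, hd⟩ := (isUnit_ovFst_frac i hb).exists_right_inv
  refine Ideal.mem_span_singleton'.mpr ⟨(ovFst i hb).hom (frac i hx) * d, ?_⟩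
  have e₁ : (ovFst i hb).hom (frac i hb) * (ovFst i hb).hom ((chartRingMap i).hom i.2.1) =
      (ovFst i hb).hom ((chartRingMap i).hom b) :=
    (map_mul _ _ _).symm.trans (congrArg _ (frac_spec i hb))
  have e₂ : (ovFst i hb).hom (frac i hx) * (ovFst i hb).hom ((chartRingMap i).hom i.2.1) =
      (ovFst i hb).hom ((chartRingMap i).hom x) :=
    (map_mul _ _ _).symm.trans (congrArg _ (frac_spec i hx))
  show _ * d * (ovFst i hb).hom ((chartRingMap i).hom b) = (ovFst i hb).hom ((chartRingMap i).hom x)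
  rw [← e₁, ← e₂]
  calc _ = (ovFst i hb).hom (frac i hx) * ((ovFst i hb).hom (frac i hb) * d) *
        (ovFst i hb).hom ((chartRingMap i).hom i.2.1) := by ring
    _ = _ := by rw [hd, mul_one]

/-- The overlap as a ring over the second chart. -/
noncomputable def ovSnd (i : Idx I) {b : Γ(X, i.1.1)} (hb : b ∈ I.ideal i.1) :
    chartRing (withGen i hb) ⟶ ov i hb :=
  (exists_ovSnd i hb).choose

@[reassoc]
theorem chartRingMap_ovSnd (i : Idx I) {b : Γ(X, i.1.1)} (hb : b ∈ I.ideal i.1) :
    chartRingMap (withGen i hb) ≫ ovSnd i hb = chartRingMap i ≫ ovFst i hb :=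
  (exists_ovSnd i hb).choose_spec

theorem ovSnd_chartRingMap_apply (i : Idx I) {b : Γ(X, i.1.1)} (hb : b ∈ I.ideal i.1)
    (x : Γ(X, i.1.1)) :
    (ovSnd i hb).hom ((chartRingMap (withGen i hb)).hom x) =
      (ovFst i hb).hom ((chartRingMap i).hom x) :=
  congrArg (fun f => CommRingCat.Hom.hom f x) (chartRingMap_ovSnd i hb)

theorem ovSnd_frac_mul (i : Idx I) {b c : Γ(X, i.1.1)} (hb : b ∈ I.ideal i.1)
    (hc : c ∈ I.ideal i.1) :
    (ovSnd i hb).hom (frac (withGen i hb) hc) * (ovFst i hb).hom (frac i hb) =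
      (ovFst i hb).hom (frac i hc) := by
  refine (mul_cancel_right_mem_nonZeroDivisors (ov_gen_mem_nonZeroDivisors i hb)).mp ?_
  have e₁ : (ovFst i hb).hom (frac i hb) * (ovFst i hb).hom ((chartRingMap i).hom i.2.1) =
      (ovFst i hb).hom ((chartRingMap i).hom b) :=
    (map_mul _ _ _).symm.trans (congrArg _ (frac_spec i hb))
  have e₂ : (ovFst i hb).hom (frac i hc) * (ovFst i hb).hom ((chartRingMap i).hom i.2.1) =
      (ovFst i hb).hom ((chartRingMap i).hom c) :=
    (map_mul _ _ _).symm.trans (congrArg _ (frac_spec i hc))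
  rw [mul_assoc, e₁, e₂, ← ovSnd_chartRingMap_apply, ← ovSnd_chartRingMap_apply]
  exact (map_mul _ _ _).symm.trans (congrArg _ (frac_spec (withGen i hb) hc))

/-- The inclusion of a chart in the blow-up. -/
noncomputable def incl (i : Idx I) : chart i ⟶ (localData I).glueData.glued := (localData I).ιC i

instance (i : Idx I) : IsOpenImmersion (incl i) :=
  (localData I).glueData.ι_isOpenImmersion i

theorem incl_proj (i : Idx I) : incl i ≫ (localData I).proj = chartMap i := (localData I).ι_proj i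

theorem ov_glue (i : Idx I) {b : Γ(X, i.1.1)} (hb : b ∈ I.ideal i.1) :
    Spec.map (ovSnd i hb) ≫ incl (withGen i hb) = Spec.map (ovFst i hb) ≫ incl i := by
  have := isOpenImmersion_ovFst i hb
  refine (localData I).hom_ext (Spec.map (ovFst i hb) ≫ chartMap i)
    ((localData I).Q_open _ _ ((localData I).hQ i)) ?_ ?_
  · rw [Category.assoc, incl_proj]
    unfold chartMap
    rw [← Spec.map_comp_assoc, ← Spec.map_comp_assoc, chartRingMap_ovSnd]
  · rw [Category.assoc, incl_proj]

theorem fracPoint_mem (i : Idx I) {b : Γ(X, i.1.1)} (hb : b ∈ I.ideal i.1) (z : chart i) :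
    GenAt I (chartMap i) i.1 b z ↔
      z ∈ (chart i).basicOpen ((Scheme.ΓSpecIso (chartRing i)).inv (frac i hb)) := by
  have hw : (chartMap i).appLE i.1.1 ⊤ (top_le_chartMap i) b =
      (Scheme.ΓSpecIso (chartRing i)).inv (frac i hb) *
        (chartMap i).appLE i.1.1 ⊤ (top_le_chartMap i) i.2.1 := by
    rw [appLE_chartMap, CommRingCat.comp_apply, CommRingCat.comp_apply, ← map_mul]
    exact congrArg _ (frac_spec i hb).symm
  set w := (Scheme.ΓSpecIso (chartRing i)).inv (frac i hb)
  constructor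
  · rintro ⟨W, e, hzW, hW⟩
    have h₂ := ideal_eq_span_of_genAt_le (W := ⟨⊤, isAffineOpen_top _⟩) (W' := W) le_top
      (top_le_chartMap i) (ideal_top_chart i)
    have hnzd := gen_mem_nonZeroDivisors (effCartier_chartMap i) h₂
    have hb' := congrArg ((chart i).presheaf.map (homOfLE (le_top (a := W.1))).op) hw
    rw [map_mul, appLE_res (chartMap i) le_top, appLE_res (chartMap i) le_top] at hb'
    obtain ⟨d, hd⟩ := Ideal.mem_span_singleton'.mp (hW ▸ h₂ ▸ Ideal.mem_span_singleton_self _)
    rw [hb'] at hd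
    have hu : IsUnit ((chart i).presheaf.map (homOfLE (le_top (a := W.1))).op w) :=
      IsUnit.of_mul_eq_one d ((mul_cancel_right_mem_nonZeroDivisors hnzd).mp
        (by rw [one_mul, mul_comm _ d, mul_assoc]; exact hd))
    rw [(chart i).mem_basicOpen w z trivial,
      ← TopCat.Presheaf.germ_res_apply (chart i).presheaf (homOfLE (le_top (a := W.1))) z hzW]
    exact hu.map _
  · intro hz
    refine ⟨⟨_, (isAffineOpen_top _).basicOpen w⟩, le_top.trans (top_le_chartMap i), hz, ?_⟩
    rw [ideal_eq_span_of_genAt_le (W := ⟨⊤, isAffineOpen_top _⟩) le_top (top_le_chartMap i)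
      (ideal_top_chart i), ← appLE_res (chartMap i) le_top (top_le_chartMap i) b, hw, map_mul,
      appLE_res (chartMap i) le_top (top_le_chartMap i)]
    exact (Ideal.span_singleton_mul_left_unit (RingedSpace.isUnit_res_basicOpen _ w) _).symm

theorem mem_range_incl_iff (i j : Idx I) (z : chart i) :
    incl i z ∈ Set.range (incl j) ↔ GenAt I (chartMap i) j.1 j.2.1 z := by
  constructor
  · intro hz
    let W : (chart i).Opens := incl i ⁻¹ᵁ (incl j).opensRange
    have hr : Set.range (W.ι ≫ incl i) ⊆ Set.range (incl j) := by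
      rintro _ ⟨w, rfl⟩; exact w.2
    let k := IsOpenImmersion.lift (incl j) _ hr
    have hk : k ≫ chartMap j = W.ι ≫ chartMap i := by
      rw [← incl_proj j, ← incl_proj i, IsOpenImmersion.lift_fac_assoc, Category.assoc]
    have hP : GenAt I (W.ι ≫ chartMap i) j.1 j.2.1 ⟨z, hz⟩ :=
      hk ▸ genAt_comp k (genAt_chartMap j _)
    exact genAt_chart_mem W.ι ((localData I).Q_open W.ι _ ((localData I).hQ i)) ⟨z, hz⟩ hP
  · intro hz
    let V := (localData I).V i j
    have hglue : (localData I).t i j ≫ ((localData I).V j i).ι ≫ incl j = V.ι ≫ incl i :=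
      (localData I).glueData.glue_condition i j
    exact ⟨((localData I).t i j ≫ ((localData I).V j i).ι) ⟨z, hz⟩,
      congrArg (fun f => f.base (⟨z, hz⟩ : V.toScheme)) hglue⟩

end Groth.Agent.Lib.BlowUpExists
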