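import Groth.Agent.Lib.BlowUpExists.Charts
import Groth.Prelude.Def_Rees
import Mathlib.RingTheory.GradedAlgebra.HomogeneousLocalization
import Mathlib.RingTheory.GradedAlgebra.Homogeneous.Ideal
import Mathlib.AlgebraicGeometry.ProjectiveSpectrum.Basic

/-!
# The degree zero part of a localization of a Rees algebra is an affine blow-up algebra
-/

universe u

open Polynomial HomogeneousLocalization

namespace Groth.Agent.Lib.BlowUpExists

variable {A : Type u} [CommRing A] {I : Ideal A}

/-- The element `a X` of the Rees algebra. -/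
noncomputable def gX {a : A} (ha : a ∈ I) : reesAlgebra I :=
  ⟨monomial 1 a, reesAlgebra.monomial_mem.mpr (by rwa [pow_one])⟩

theorem gX_mem {a : A} (ha : a ∈ I) : gX ha ∈ Rees.deg (reesAlgebra I) 1 :=
  fun m hm => by
    show (monomial 1 a).coeff m = 0
    rw [coeff_monomial]; exact if_neg (Ne.symm hm)

theorem deg_eq_monomial {n : ℕ} {x : reesAlgebra I} (hx : x ∈ Rees.deg (reesAlgebra I) n) :
    (x : A[X]) = monomial n ((x : A[X]).coeff n) :=
  Polynomial.ext fun m => by
    rw [coeff_monomial]
    split_ifs with h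
    · rw [h]
    · exact hx m (Ne.symm h)

theorem irrelevant_le_span_gX :
    (HomogeneousIdeal.irrelevant (Rees.deg (reesAlgebra I))).toIdeal ≤
      Ideal.span (Set.range fun a : I => gX a.2) := by
  set J := Ideal.span (Set.range fun a : I => gX a.2)
  have key : ∀ n, ∀ r (hr : r ∈ I ^ (n + 1)),
      (⟨monomial (n + 1) r, reesAlgebra.monomial_mem.mpr hr⟩ : reesAlgebra I) ∈ J := by
    intro n r hr
    have hr' : r ∈ I ^ n * I := by rwa [← pow_succ]
    refine Submodule.mul_induction_on' (C := fun r _ => ∀ h : r ∈ I ^ (n + 1),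
      (⟨monomial (n + 1) r, reesAlgebra.monomial_mem.mpr h⟩ : reesAlgebra I) ∈ J) ?_ ?_ hr' hr
    · intro p hp q hq h
      have e : (⟨monomial (n + 1) (p * q), reesAlgebra.monomial_mem.mpr h⟩ : reesAlgebra I) =
          ⟨monomial n p, reesAlgebra.monomial_mem.mpr hp⟩ * gX hq := Subtype.ext (by
        show monomial (n + 1) (p * q) = monomial n p * monomial 1 q
        rw [monomial_mul_monomial])
      rw [e]
      exact Ideal.mul_mem_left _ _ (Ideal.subset_span ⟨⟨q, hq⟩, rfl⟩)
    · intro p hp q hq h₁ h₂ h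
      have e : (⟨monomial (n + 1) (p + q), reesAlgebra.monomial_mem.mpr h⟩ : reesAlgebra I) =
          ⟨monomial (n + 1) p, reesAlgebra.monomial_mem.mpr (by rwa [pow_succ])⟩ +
            ⟨monomial (n + 1) q, reesAlgebra.monomial_mem.mpr (by rwa [pow_succ])⟩ :=
        Subtype.ext (map_add _ _ _)
      rw [e]
      exact J.add_mem (h₁ (by rwa [pow_succ])) (h₂ (by rwa [pow_succ]))
  intro z hz
  classical
  rw [← DirectSum.sum_support_decompose (Rees.deg (reesAlgebra I)) z]
  refine Ideal.sum_mem _ fun c _ => ?_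
  rcases c with _ | n
  · have h0 : (DirectSum.decompose (Rees.deg (reesAlgebra I)) z 0 : reesAlgebra I) = 0 := by
      rw [← GradedRing.proj_apply]
      exact (HomogeneousIdeal.mem_irrelevant_iff _ z).mp hz
    rw [h0]
    exact J.zero_mem
  · set w := DirectSum.decompose (Rees.deg (reesAlgebra I)) z (n + 1)
    have e : (w : reesAlgebra I) = ⟨monomial (n + 1) (((w : reesAlgebra I) : A[X]).coeff (n + 1)),
        reesAlgebra.monomial_mem.mpr ((w : reesAlgebra I).2 _)⟩ :=
      Subtype.ext (deg_eq_monomial w.2)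
    rw [e]
    exact key n _ ((w : reesAlgebra I).2 _)

variable (I)

/-- `X ↦ 1/a`. -/
noncomputable def reesEval (a : A) : reesAlgebra I →+* Localization.Away a :=
  (Polynomial.aeval (R := A) (IsLocalization.Away.invSelf (S := Localization.Away a) a)).toRingHom.comp
    (reesAlgebra I).val.toRingHom

variable {I}

theorem reesEval_monomial (a : A) {n : ℕ} {x : reesAlgebra I}
    (hx : x ∈ Rees.deg (reesAlgebra I) n) :
    reesEval I a x = algebraMap A _ ((x : A[X]).coeff n) *
      IsLocalization.Away.invSelf (S := Localization.Away a) a ^ n := by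
  show Polynomial.aeval (R := A) _ (x : A[X]) = _
  conv_lhs => rw [deg_eq_monomial hx, aeval_monomial]

theorem reesEval_gX {a : A} (ha : a ∈ I) : reesEval I a (gX ha) = 1 := by
  rw [reesEval_monomial a (gX_mem ha), pow_one]
  show algebraMap A _ ((monomial 1 a).coeff 1) * _ = 1
  rw [coeff_monomial_same]
  exact IsLocalization.Away.mul_invSelf a

theorem isUnit_reesEval_gX {a : A} (ha : a ∈ I) : IsUnit (reesEval I a (gX ha)) := by
  rw [reesEval_gX]; exact isUnit_one

/-- The map from the degree zero part to `A_a`. -/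
noncomputable def awayEval {a : A} (ha : a ∈ I) :
    Away (Rees.deg (reesAlgebra I)) (gX ha) →+* Localization.Away a :=
  (Localization.awayLift (reesEval I a) (gX ha) (isUnit_reesEval_gX ha)).comp
    (algebraMap _ (Localization.Away (gX ha)))

theorem awayEval_mk {a : A} (ha : a ∈ I) (n : ℕ) (x : reesAlgebra I)
    (hx : x ∈ Rees.deg (reesAlgebra I) (n • 1)) :
    awayEval ha (Away.mk _ (gX_mem ha) n x hx) = reesEval I a x := by
  show Localization.awayLift _ _ (isUnit_reesEval_gX ha) (Away.mk _ (gX_mem ha) n x hx).val = _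
  rw [Away.val_mk, Localization.awayLift_mk _ _ _ 1 (by rw [reesEval_gX, mul_one]), one_pow, mul_one]

theorem val_fromZeroRingHom {f : reesAlgebra I} (c : Rees.deg (reesAlgebra I) 0) :
    (fromZeroRingHom (Rees.deg (reesAlgebra I)) (Submonoid.powers f) c).val =
      algebraMap (reesAlgebra I) (Localization.Away f) c :=
  Localization.mk_one_eq_algebraMap _

theorem awayEval_fromZero {a : A} (ha : a ∈ I) (c : A) :
    awayEval ha (fromZeroRingHom (Rees.deg (reesAlgebra I)) _
      (algebraMap A (Rees.deg (reesAlgebra I) 0) c)) = algebraMap A _ c := by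
  refine Eq.trans ?_ (Polynomial.aeval_C
    (IsLocalization.Away.invSelf (S := Localization.Away a) a) c)
  refine (congrArg (Localization.awayLift (reesEval I a) (gX ha) (isUnit_reesEval_gX ha))
    (val_fromZeroRingHom _)).trans ?_
  exact IsLocalization.Away.lift_eq _ _ _

theorem awayEval_injective {a : A} (ha : a ∈ I) : Function.Injective (awayEval ha) := by
  refine (injective_iff_map_eq_zero _).mpr fun z hz => ?_
  obtain ⟨n, x, hx, rfl⟩ := Away.mk_surjective _ (gX_mem ha) z
  rw [awayEval_mk] at hz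
  have hxn : x ∈ Rees.deg (reesAlgebra I) n := by simpa using hx
  rw [reesEval_monomial a hxn] at hz
  have h0 : algebraMap A (Localization.Away a) ((x : A[X]).coeff n) = 0 := by
    have := congrArg (· * algebraMap A (Localization.Away a) a ^ n) hz
    simpa [mul_assoc, ← mul_pow, mul_comm _ (algebraMap A (Localization.Away a) a),
      IsLocalization.Away.mul_invSelf] using this
  obtain ⟨⟨_, k, rfl⟩, hk⟩ :=
    (IsLocalization.map_eq_zero_iff (Submonoid.powers a) (Localization.Away a) _).mp h0
  apply val_injective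
  rw [Away.val_mk, val_zero, Localization.mk_eq_mk', IsLocalization.mk'_eq_zero_iff]
  refine ⟨⟨gX ha ^ k, k, rfl⟩, Subtype.ext ?_⟩
  show ((gX ha ^ k : reesAlgebra I) : A[X]) * (x : A[X]) = 0
  rw [SubmonoidClass.coe_pow, deg_eq_monomial hxn]
  show monomial 1 a ^ k * monomial n _ = 0
  rw [monomial_pow, monomial_mul_monomial]
  simp only at hk
  rw [hk, map_zero]

theorem range_awayEval {a : A} (ha : a ∈ I) :
    (∀ z, awayEval ha z ∈ BlowUp.affineAlgebra A I a) ∧
      ∀ r ∈ BlowUp.affineAlgebra A I a, ∃ z, awayEval ha z = r := by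
  refine ⟨?_, ?_⟩
  · intro z
    obtain ⟨n, x, hx, rfl⟩ := Away.mk_surjective _ (gX_mem ha) z
    rw [awayEval_mk, reesEval_monomial a (show x ∈ Rees.deg (reesAlgebra I) n by simpa using hx)]
    clear hx
    show _ ∈ BlowUp.affineAlgebra A I a
    generalize hr : (x : A[X]).coeff n = r
    have hrI : r ∈ I ^ n := hr ▸ x.2 n
    clear hr
    induction n generalizing r with
    | zero => rw [pow_zero, mul_one]; exact Subalgebra.algebraMap_mem _ r
    | succ n ih =>
      rw [pow_succ] at hrI
      refine Submodule.mul_induction_on hrI (fun p hp q hq => ?_) (fun p q hp hq => ?_)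
      · rw [map_mul, pow_succ, mul_mul_mul_comm]
        refine mul_mem (ih p hp) (Algebra.subset_adjoin ⟨q, hq, ?_⟩)
        exact IsLocalization.eq_mk'_iff_mul_eq.mpr (by
          rw [mul_assoc, mul_comm _ (algebraMap A _ a), IsLocalization.Away.mul_invSelf, mul_one])
      · rw [map_add, add_mul]
        exact add_mem hp hq
  · intro r hr
    refine Algebra.adjoin_induction (p := fun r _ => ∃ z, awayEval ha z = r) ?_ ?_ ?_ ?_ hr
    · rintro _ ⟨x, hx, rfl⟩
      refine ⟨Away.mk _ (gX_mem ha) 1 (gX hx) (by simpa using gX_mem hx), ?_⟩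
      rw [awayEval_mk, reesEval_monomial a (gX_mem hx), pow_one]
      show algebraMap A _ ((monomial 1 x).coeff 1) * _ = _
      rw [coeff_monomial_same]
      exact IsLocalization.eq_mk'_iff_mul_eq.mpr (by
        rw [mul_assoc, mul_comm _ (algebraMap A _ a), IsLocalization.Away.mul_invSelf, mul_one])
    · exact fun c => ⟨_, awayEval_fromZero ha c⟩
    · exact fun _ _ _ _ ⟨p, hp⟩ ⟨q, hq⟩ => ⟨p + q, by rw [map_add, hp, hq]⟩
    · exact fun _ _ _ _ ⟨p, hp⟩ ⟨q, hq⟩ => ⟨p * q, by rw [map_mul, hp, hq]⟩

/-- `R(I)_(aX) = A[I/a]`. -/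
noncomputable def awayEquiv {a : A} (ha : a ∈ I) :
    Away (Rees.deg (reesAlgebra I)) (gX ha) ≃+* BlowUp.affineAlgebra A I a :=
  RingEquiv.ofBijective
    ((awayEval ha).codRestrict (BlowUp.affineAlgebra A I a) fun z =>
      (range_awayEval ha).1 z)
    ⟨fun x y h => awayEval_injective ha (congrArg Subtype.val h), fun r => by
      obtain ⟨z, hz⟩ := (range_awayEval ha).2 _ r.2
      exact ⟨z, Subtype.ext hz⟩⟩

variable (I) in
/-- The structure map `A → R(I)_(aX)`. -/
noncomputable def awayStruct {a : A} (ha : a ∈ I) :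
    A →+* Away (Rees.deg (reesAlgebra I)) (gX ha) :=
  (fromZeroRingHom (Rees.deg (reesAlgebra I)) _).comp (algebraMap A (Rees.deg (reesAlgebra I) 0))

theorem awayEquiv_awayStruct {a : A} (ha : a ∈ I) (c : A) :
    awayEquiv ha (awayStruct I ha c) = algebraMap A _ c :=
  Subtype.ext (awayEval_fromZero ha c)

theorem awayStruct_mem_nonZeroDivisors {a : A} (ha : a ∈ I) :
    awayStruct I ha a ∈ nonZeroDivisors (Away (Rees.deg (reesAlgebra I)) (gX ha)) := by
  refine Groth.Agent.Lib.Ideal.EffCartier.mem_nonZeroDivisors_of_eq_zero fun b hb => ?_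
  apply (awayEquiv ha).injective
  rw [map_zero]
  refine (mul_left_mem_nonZeroDivisors_eq_zero_iff
    (algebraMap_gen_mem_nonZeroDivisors I a)).mp ?_
  rw [← awayEquiv_awayStruct ha, ← map_mul, hb, map_zero]

theorem map_ideal_awayStruct {a : A} (ha : a ∈ I) :
    Ideal.map (awayStruct I ha) I = Ideal.span {awayStruct I ha a} := by
  have e : awayStruct I ha =
      ((awayEquiv ha).symm : _ →+* _).comp (algebraMap A (BlowUp.affineAlgebra A I a)) :=
    RingHom.ext fun c => (awayEquiv ha).injective (by simp [awayEquiv_awayStruct])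
  rw [e, ← Ideal.map_map, map_ideal_eq_span I a ha, Ideal.map_span, Set.image_singleton]
  rfl

theorem hom_ext_away {a : A} (ha : a ∈ I) {B : Type u} [CommRing B]
    {ψ ψ' : Away (Rees.deg (reesAlgebra I)) (gX ha) →+* B}
    (h : ψ.comp (awayStruct I ha) = ψ'.comp (awayStruct I ha))
    (hnzd : ψ (awayStruct I ha a) ∈ nonZeroDivisors B) : ψ = ψ' := by
  have e : ∀ c, (awayEquiv ha).symm (algebraMap A _ c) = awayStruct I ha c := fun c =>
    (awayEquiv ha).injective (by simp [awayEquiv_awayStruct])
  have := hom_ext_affineAlgebra I a (ψ := ψ.comp ((awayEquiv ha).symm : _ →+* _))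
    (ψ' := ψ'.comp ((awayEquiv ha).symm : _ →+* _))
    (RingHom.ext fun c => by simpa [e] using DFunLike.congr_fun h c) (by simpa [e] using hnzd)
  exact RingHom.ext fun z => by simpa using DFunLike.congr_fun this (awayEquiv ha z)

theorem exists_hom_away {a : A} (ha : a ∈ I) {B : Type u} [CommRing B] (φ : A →+* B)
    (hnzd : φ a ∈ nonZeroDivisors B) (hI : ∀ x ∈ I, φ x ∈ Ideal.span {φ a}) :
    ∃ ψ : Away (Rees.deg (reesAlgebra I)) (gX ha) →+* B, ψ.comp (awayStruct I ha) = φ := by
  obtain ⟨ψ, hψ⟩ := exists_hom_affineAlgebra I a φ hnzd hI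
  exact ⟨ψ.comp (awayEquiv ha).toRingHom, RingHom.ext fun c => by
    rw [← hψ]; exact congrArg ψ (awayEquiv_awayStruct ha c)⟩

theorem isLocalizationElem_mul {a b : A} (ha : a ∈ I) (hb : b ∈ I) :
    Away.isLocalizationElem (gX_mem hb) (gX_mem ha) * awayStruct I hb b = awayStruct I hb a := by
  apply (awayEquiv hb).injective
  rw [map_mul, awayEquiv_awayStruct, awayEquiv_awayStruct]
  apply Subtype.ext
  show awayEval hb (Away.isLocalizationElem (gX_mem hb) (gX_mem ha)) * algebraMap A _ b =
    algebraMap A _ a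
  rw [Away.isLocalizationElem, awayEval_mk, reesEval_monomial b (n := 1) (by
    simpa using gX_mem ha)]
  rw [show (((gX ha ^ 1 : reesAlgebra I)) : A[X]).coeff 1 = a by simp [gX, coeff_monomial_same]]
  rw [pow_one, mul_assoc, mul_comm _ (algebraMap A _ b), IsLocalization.Away.mul_invSelf, mul_one]

end Groth.Agent.Lib.BlowUpExists
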