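import Groth.Agent.Lib.BlowUpExists.Cover
import Groth.Agent.Lib.BlowUpExists.ReesAway
import Groth.Prelude.Def_ega3

/-!
# `Proj` of the Rees algebra is the blow-up
-/

universe u

open CategoryTheory CategoryTheory.Limits AlgebraicGeometry TopologicalSpace Opposite
open Groth.Agent.Lib.Ideal HomogeneousLocalization

namespace Groth.Agent.Lib.BlowUpExists

theorem effCartier_comp_flat {X Y Z : Scheme.{u}} (f : Z ⟶ Y) [Flat f] (g : Y ⟶ X)
    {J : X.IdealSheafData} (hg : BlowUp.IsEffCartierIdeal (J.comap g)) :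
    BlowUp.IsEffCartierIdeal (J.comap (f ≫ g)) :=
  Scheme.IdealSheafData.comap_comp J f g ▸ EffCartier.isEffCartier_comap_of_flat f hg

variable {A : Type u} [CommRing A] (I : Ideal A)

/-- The structure map. -/
noncomputable abbrev reesProjMap :
    Proj (Rees.deg (reesAlgebra I)) ⟶ Spec (CommRingCat.of A) :=
  Proj (Rees.deg (reesAlgebra I)) ↘ Spec (CommRingCat.of A)

/-- The ideal sheaf of `I`. -/
noncomputable abbrev specIdeal : (Spec (CommRingCat.of A)).IdealSheafData :=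
  Scheme.IdealSheafData.ofIdealTop (I.map (Scheme.ΓSpecIso (CommRingCat.of A)).inv.hom)

/-- The whole spectrum. -/
noncomputable abbrev specTop : (Spec (CommRingCat.of A)).affineOpens := ⟨⊤, isAffineOpen_top _⟩

theorem specIdeal_top :
    (specIdeal I).ideal specTop = I.map (Scheme.ΓSpecIso (CommRingCat.of A)).inv.hom := by
  rw [Scheme.IdealSheafData.ofIdealTop_ideal]
  conv_rhs => rw [← Ideal.map_id (I.map (Scheme.ΓSpecIso (CommRingCat.of A)).inv.hom)]
  congr 1

variable {I}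

/-- The chart index of an element of `I`. -/
noncomputable def rIdx {a : A} (ha : a ∈ I) : Idx (specIdeal I) :=
  ⟨specTop, (Scheme.ΓSpecIso (CommRingCat.of A)).inv a,
    (specIdeal_top I).ge (Ideal.mem_map_of_mem _ ha)⟩

/-- `A` to a chart ring. -/
noncomputable def rStruct {a : A} (ha : a ∈ I) : CommRingCat.of A ⟶ chartRing (rIdx ha) :=
  (Scheme.ΓSpecIso (CommRingCat.of A)).inv ≫ chartRingMap (rIdx ha)

theorem chartMap_rIdx {a : A} (ha : a ∈ I) :
    chartMap (rIdx ha) = Spec.map (rStruct ha) := by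
  rw [rStruct, Spec.map_comp, chartMap]
  congr 1
  show (isAffineOpen_top (Spec (CommRingCat.of A))).fromSpec = _
  rw [IsAffineOpen.fromSpec_top, Scheme.isoSpec_Spec_inv]

theorem exists_ringIso {a : A} (ha : a ∈ I) :
    ∃ ψ : CommRingCat.of (Away (Rees.deg (reesAlgebra I)) (gX ha)) ⟶ chartRing (rIdx ha),
      IsIso ψ ∧ CommRingCat.ofHom (awayStruct I ha) ≫ ψ = rStruct ha := by
  set iso := Scheme.ΓSpecIso (CommRingCat.of A)
  have h₁ : (rStruct ha).hom a ∈ nonZeroDivisors (chartRing (rIdx ha)) :=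
    chartRingMap_gen_mem_nonZeroDivisors (rIdx ha)
  obtain ⟨ψ, hψ⟩ := exists_hom_away ha (rStruct ha).hom h₁ fun x hx => by
    show (chartRingMap (rIdx ha)).hom (iso.inv x) ∈
      Ideal.span {(chartRingMap (rIdx ha)).hom (rIdx ha).2.1}
    rw [← chartRingMap_map_ideal (rIdx ha)]
    exact Ideal.mem_map_of_mem _ ((specIdeal_top I).ge (Ideal.mem_map_of_mem _ hx))
  have e : ∀ x : A, iso.hom (iso.inv x) = x := fun x => Iso.inv_hom_id_apply iso x
  let φ : Γ(Spec (CommRingCat.of A), ⊤) ⟶ CommRingCat.of (Away (Rees.deg (reesAlgebra I)) (gX ha)) :=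
    iso.hom ≫ CommRingCat.ofHom (awayStruct I ha)
  have hφ : ∀ x : A, φ (iso.inv x) = awayStruct I ha x := fun x => congrArg (awayStruct I ha) (e x)
  have h₂ : φ.hom (rIdx ha).2.1 ∈
      nonZeroDivisors (CommRingCat.of (Away (Rees.deg (reesAlgebra I)) (gX ha))) := by
    show φ (iso.inv a) ∈ _
    rw [hφ]; exact awayStruct_mem_nonZeroDivisors ha
  obtain ⟨χ, hχ⟩ := exists_chartRing_hom (rIdx ha) φ h₂ fun x hx => by
    obtain ⟨y, hy, rfl⟩ := (Ideal.mem_map_iff_of_surjective _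
      (ConcreteCategory.bijective_of_isIso iso.inv).2).mp ((specIdeal_top I).le hx)
    show φ (iso.inv y) ∈ Ideal.span {φ (iso.inv a)}
    rw [hφ, hφ, ← map_ideal_awayStruct ha]
    exact Ideal.mem_map_of_mem _ hy
  refine ⟨CommRingCat.ofHom ψ, ⟨χ, ?_, ?_⟩, CommRingCat.hom_ext hψ⟩
  · refine CommRingCat.hom_ext (hom_ext_away ha (RingHom.ext fun x => ?_) ?_)
    · show χ (ψ (awayStruct I ha x)) = awayStruct I ha x
      rw [show ψ (awayStruct I ha x) = rStruct ha x from DFunLike.congr_fun hψ x, ← hφ x, ← hχ]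
      rfl
    · show χ (ψ (awayStruct I ha a)) ∈ _
      rw [show ψ (awayStruct I ha a) = rStruct ha a from DFunLike.congr_fun hψ a]
      have e' : χ.hom (rStruct ha a) = φ.hom (rIdx ha).2.1 :=
        congrArg (fun k : Γ(Spec (CommRingCat.of A), ⊤) ⟶
          CommRingCat.of (Away (Rees.deg (reesAlgebra I)) (gX ha)) => k.hom (rIdx ha).2.1) hχ
      exact (congrArg (· ∈ nonZeroDivisors _) e').mpr h₂
  · refine chartRing_hom_ext (rIdx ha) ?_ ?_
    · rw [← Category.assoc, hχ, Category.comp_id]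
      refine CommRingCat.hom_ext (RingHom.ext fun x => ?_)
      show ψ (awayStruct I ha (iso.hom x)) = chartRingMap (rIdx ha) x
      rw [show ψ (awayStruct I ha (iso.hom x)) = rStruct ha (iso.hom x) from
        DFunLike.congr_fun hψ _]
      exact congrArg (chartRingMap (rIdx ha)) (Iso.hom_inv_id_apply iso x)
    · rw [← Category.assoc, hχ]
      show ψ (φ (iso.inv a)) ∈ _
      rw [hφ, show ψ (awayStruct I ha a) = rStruct ha a from DFunLike.congr_fun hψ a]
      exact h₁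

/-- The standard charts of `Proj` of the Rees algebra. -/
theorem exists_chartι {a : A} (ha : a ∈ I) :
    ∃ j : chart (rIdx ha) ⟶ Proj (Rees.deg (reesAlgebra I)), ∃ _ : IsOpenImmersion j,
      j ≫ reesProjMap I = chartMap (rIdx ha) ∧
      j.opensRange = Proj.basicOpen (Rees.deg (reesAlgebra I)) (gX ha) ∧
      ∀ (b : A) (hb : b ∈ I) (w : chart (rIdx ha)),
        GenAt (specIdeal I) (chartMap (rIdx ha)) specTop
          ((Scheme.ΓSpecIso (CommRingCat.of A)).inv b) w →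
        j w ∈ Proj.basicOpen (Rees.deg (reesAlgebra I)) (gX hb) := by
  obtain ⟨ψ, hψiso, hψ⟩ := exists_ringIso ha
  refine ⟨Spec.map ψ ≫ Proj.awayι _ (gX ha) (gX_mem ha) one_pos, inferInstance, ?_, ?_, ?_⟩
  · show (Spec.map ψ ≫ Proj.awayι _ _ _ _) ≫ Proj.toSpecZero _ ≫ Spec.map _ = _
    rw [Category.assoc, Proj.awayι_toSpecZero_assoc, ← Spec.map_comp, ← Spec.map_comp,
      chartMap_rIdx, ← hψ]
    rfl
  · rw [Scheme.Hom.opensRange_comp_of_isIso, Proj.opensRange_awayι]
  · intro b hb w hw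
    set c := Away.isLocalizationElem (gX_mem ha) (gX_mem hb)
    show Spec.map ψ w ∈ Proj.awayι _ (gX ha) (gX_mem ha) one_pos ⁻¹ᵁ Proj.basicOpen _ (gX hb)
    rw [Proj.awayι_preimage_basicOpen _ (gX_mem ha) one_pos (gX_mem hb) one_pos]
    show w ∈ PrimeSpectrum.basicOpen (ψ.hom c)
    have hc : ψ.hom c * (chartRingMap (rIdx ha)).hom (rIdx ha).2.1 =
        (chartRingMap (rIdx ha)).hom ((Scheme.ΓSpecIso (CommRingCat.of A)).inv b) := by
      have h := congrArg ψ.hom (isLocalizationElem_mul hb ha)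
      rw [map_mul] at h
      have e : ∀ x, ψ.hom (awayStruct I ha x) = rStruct ha x := fun x =>
        congrArg (fun k : CommRingCat.of A ⟶ _ => k.hom x) hψ
      rw [e, e] at h
      exact h
    obtain ⟨W, e, hwW, hW⟩ := hw
    have h₁ := ideal_eq_span_of_genAt_le (W' := W) le_top (top_le_chartMap (rIdx ha))
      (ideal_top_chart (rIdx ha))
    have key : ∀ x, (chartMap (rIdx ha)).appLE ⊤ W.1 e x = (chart (rIdx ha)).presheaf.map
        (homOfLE le_top).op ((Scheme.ΓSpecIso _).inv ((chartRingMap (rIdx ha)).hom x)) := fun x => by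
      refine (appLE_res (chartMap (rIdx ha)) (le_top : W.1 ≤ ⊤) (top_le_chartMap (rIdx ha)) x).symm.trans ?_
      rw [appLE_chartMap]
      rfl
    set ρ := ((Scheme.ΓSpecIso (chartRing (rIdx ha))).inv ≫
      (chart (rIdx ha)).presheaf.map (homOfLE (le_top : W.1 ≤ ⊤)).op).hom
    set s := (chartMap (rIdx ha)).appLE ⊤ W.1 e (rIdx ha).2.1 with hs_def
    have hs : s ∈ nonZeroDivisors _ := gen_mem_nonZeroDivisors (effCartier_chartMap _) h₁
    have e₁ : ρ (ψ.hom c) * s =
        (chartMap (rIdx ha)).appLE ⊤ W.1 e ((Scheme.ΓSpecIso (CommRingCat.of A)).inv b) := by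
      rw [hs_def, key, key]
      show ρ _ * ρ _ = ρ _
      rw [← map_mul, hc]
    obtain ⟨d, hd⟩ := Ideal.mem_span_singleton'.mp
      (hW ▸ h₁.symm ▸ Ideal.mem_span_singleton_self s)
    have hu : IsUnit (ρ (ψ.hom c)) := by
      refine IsUnit.of_mul_eq_one d ((mul_cancel_right_mem_nonZeroDivisors hs).mp ?_)
      rw [← e₁] at hd
      rw [one_mul, mul_comm (ρ (ψ.hom c)) d, mul_assoc]
      exact hd
    refine (basicOpen_eq_of_affine (R := chartRing (rIdx ha)) (ψ.hom c)).le ?_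
    refine (Scheme.mem_basicOpen_top (chart (rIdx ha)) _ w).mpr ?_
    have hw' := hu.map ((chart (rIdx ha)).presheaf.germ W.1 w hwW).hom
    rwa [show ρ (ψ.hom c) = (chart (rIdx ha)).presheaf.map (homOfLE le_top).op
      ((Scheme.ΓSpecIso _).inv (ψ.hom c)) from rfl, TopCat.Presheaf.germ_res_apply] at hw'

theorem exists_mem_basicOpen (z : Proj (Rees.deg (reesAlgebra I))) :
    ∃ (a : A) (ha : a ∈ I), z ∈ Proj.basicOpen (Rees.deg (reesAlgebra I)) (gX ha) := by
  obtain ⟨a, ha⟩ := Opens.mem_iSup.mp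
    ((Proj.iSup_basicOpen_eq_top (Rees.deg (reesAlgebra I)) _ irrelevant_le_span_gX).ge
      (Opens.mem_top z))
  exact ⟨a.1, a.2, ha⟩

variable (I) in
theorem effCartier_reesProjMap :
    BlowUp.IsEffCartierIdeal ((specIdeal I).comap (reesProjMap I)) := by
  choose a ha hz using fun z => exists_mem_basicOpen (I := I) z
  choose j hj hjc hjr hjb using fun z => exists_chartι (ha z)
  refine effCartier_of_openCover
    { I₀ := Proj (Rees.deg (reesAlgebra I))
      X := fun z => chart (rIdx (ha z))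
      f := fun z => j z
      mem₀ := ?_ } fun z => ?_
  · rw [Scheme.presieve₀_mem_precoverage_iff]
    refine ⟨fun z => ?_, fun z => hj z⟩
    have hz' : z ∈ (j z).opensRange := (hjr z).symm ▸ hz z
    exact ⟨z, hz'⟩
  · rw [← Scheme.IdealSheafData.comap_comp, hjc]
    exact effCartier_chartMap _

theorem mem_basicOpen_of_genAt {Y : Scheme.{u}} (g : Y ⟶ Spec (CommRingCat.of A))
    (hg : BlowUp.IsEffCartierIdeal ((specIdeal I).comap g))
    {h : Y ⟶ Proj (Rees.deg (reesAlgebra I))} (hh : h ≫ reesProjMap I = g) {a : A} (ha : a ∈ I)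
    {y : Y} (hy : GenAt (specIdeal I) g specTop ((Scheme.ΓSpecIso (CommRingCat.of A)).inv a) y) :
    h y ∈ Proj.basicOpen (Rees.deg (reesAlgebra I)) (gX ha) := by
  subst hh
  have hπ : GenAt (specIdeal I) (reesProjMap I) specTop
      ((Scheme.ΓSpecIso (CommRingCat.of A)).inv a) (h y) :=
    genAt_of_comp h (effCartier_reesProjMap I) hg
      (a := ⟨_, (specIdeal_top I).ge (Ideal.mem_map_of_mem _ ha)⟩) hy
  obtain ⟨b, hb, hzb⟩ := exists_mem_basicOpen (h y)
  obtain ⟨j, hj, hjc, hjr, hjb⟩ := exists_chartι hb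
  obtain ⟨w, hw⟩ : h y ∈ j.opensRange := hjr.symm ▸ hzb
  rw [← hw]
  refine hjb a ha w ?_
  rw [← hjc]
  exact genAt_comp j (hw.symm ▸ hπ)

theorem reesProj_hom_ext {a : A} (ha : a ∈ I) {V : Scheme.{u}} (g : V ⟶ Spec (CommRingCat.of A))
    (hg : BlowUp.IsEffCartierIdeal ((specIdeal I).comap g))
    (hgen : ∀ z, GenAt (specIdeal I) g specTop ((Scheme.ΓSpecIso (CommRingCat.of A)).inv a) z)
    (h h' : V ⟶ Proj (Rees.deg (reesAlgebra I))) (e : h ≫ reesProjMap I = g)
    (e' : h' ≫ reesProjMap I = g) : h = h' := by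
  obtain ⟨j, hj, hjc, hjr, hjb⟩ := exists_chartι ha
  have hr : ∀ f : V ⟶ Proj (Rees.deg (reesAlgebra I)), f ≫ reesProjMap I = g →
      Set.range f ⊆ Set.range j := by
    rintro f hf _ ⟨z, rfl⟩
    exact hjr.ge (mem_basicOpen_of_genAt g hg hf ha (hgen z))
  rw [← IsOpenImmersion.lift_fac j h (hr h e), ← IsOpenImmersion.lift_fac j h' (hr h' e')]
  congr 1
  refine hom_ext_chart g hg ?_ ?_
  · rw [← hjc, ← Category.assoc, IsOpenImmersion.lift_fac, e]
  · rw [← hjc, ← Category.assoc, IsOpenImmersion.lift_fac, e']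

theorem exists_gen_mem {Y : Scheme.{u}} (g : Y ⟶ Spec (CommRingCat.of A))
    (hg : BlowUp.IsEffCartierIdeal ((specIdeal I).comap g)) (y : Y) :
    ∃ (a : A) (_ : a ∈ I),
      GenAt (specIdeal I) g specTop ((Scheme.ΓSpecIso (CommRingCat.of A)).inv a) y := by
  obtain ⟨a', hy⟩ := exists_genAt_mem g hg y specTop trivial
  obtain ⟨a, ha, e⟩ := (Ideal.mem_map_iff_of_surjective _
    (ConcreteCategory.bijective_of_isIso (Scheme.ΓSpecIso (CommRingCat.of A)).inv).2).mp
    ((specIdeal_top I).le a'.2)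
  exact ⟨a, ha, e.symm ▸ hy⟩

theorem exists_hom_reesProj {a : A} (ha : a ∈ I) {V : Scheme.{u}}
    (g : V ⟶ Spec (CommRingCat.of A))
    (hg : BlowUp.IsEffCartierIdeal ((specIdeal I).comap g))
    (hgen : ∀ z, GenAt (specIdeal I) g specTop ((Scheme.ΓSpecIso (CommRingCat.of A)).inv a) z) :
    ∃ h : V ⟶ Proj (Rees.deg (reesAlgebra I)), h ≫ reesProjMap I = g := by
  obtain ⟨j, hj, hjc, hjr, hjb⟩ := exists_chartι ha
  obtain ⟨k, hk⟩ := exists_hom_chart (rIdx ha) g hg hgen
  exact ⟨k ≫ j, by rw [Category.assoc, hjc, hk]⟩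

variable (I) in
theorem isBlowUp_reesProj : BlowUp.IsBlowUp (reesProjMap I) (specIdeal I) := by
  refine ⟨effCartier_reesProjMap I, fun Y g hg => ?_⟩
  choose a ha hya using exists_gen_mem g hg
  let O : Y → Y.Opens := fun y => chartOpen g (rIdx (ha y))
  have hO : ∀ y, y ∈ O y := hya
  have hQ : ∀ y, BlowUp.IsEffCartierIdeal ((specIdeal I).comap ((O y).ι ≫ g)) := fun y =>
    effCartier_comp_flat (O y).ι g hg
  choose k hk using fun y => exists_hom_reesProj (ha y) _ (hQ y) fun z => genAt_comp (O y).ι z.2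
  let 𝒰 := Y.openCoverOfIsOpenCover O
    (TopologicalSpace.IsOpenCover.mk (eq_top_iff.mpr fun y _ => Opens.mem_iSup.mpr ⟨y, hO y⟩))
  refine ⟨𝒰.glueMorphisms k fun y y' => ?_, 𝒰.hom_ext _ _ fun y => ?_,
    fun h hh => 𝒰.hom_ext _ _ fun y => ?_⟩
  · refine reesProj_hom_ext (ha y) (pullback.fst (𝒰.f y) (𝒰.f y') ≫ (O y).ι ≫ g) ?_
      (fun z => genAt_comp _ (genAt_comp (O y).ι ((pullback.fst (𝒰.f y) (𝒰.f y')) z).2)) _ _ ?_ ?_
    · exact effCartier_comp_flat (pullback.fst (𝒰.f y) (𝒰.f y')) ((O y).ι ≫ g) (hQ y)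
    · exact (Category.assoc _ _ _).trans (congrArg (pullback.fst _ _ ≫ ·) (hk y))
    · refine (Category.assoc _ _ _).trans ((congrArg (pullback.snd _ _ ≫ ·) (hk y')).trans ?_)
      exact (pullback.condition_assoc g).symm
  · exact (Category.assoc _ _ _).symm.trans
      ((congrArg (· ≫ reesProjMap I) (𝒰.ι_glueMorphisms k _ y)).trans (hk y))
  · refine Eq.trans ?_ (𝒰.ι_glueMorphisms k _ y).symm
    refine reesProj_hom_ext (ha y) ((O y).ι ≫ g) (hQ y) (fun z => genAt_comp (O y).ι z.2) _ _ ?_ (hk y)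
    exact (Category.assoc _ _ _).trans (congrArg ((O y).ι ≫ ·) hh)

end Groth.Agent.Lib.BlowUpExists
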